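import Mathlib
import Cfsg.Agent.TECH.SecC
import Cfsg.Agent.TECH.SylIn
import Cfsg.Agent.SOLV.Basic
import Cfsg.Agent.SIG.Quasisimple
import Cfsg.Agent.KSG.KInv.Small
import Cfsg.Agent.S0675

/-!
Elementary abelian 2-subgroups in groups of 2-rank at most three; action of perfect groups on them.
-/

set_option autoImplicit false
open Cfsg Subgroup CL.MSS
open scoped commutatorElement

namespace CL.R3

variable {G : Type*} [Group G]

/-- all elements of `A` have square one -/
def El (A : Subgroup G) : Prop := ∀ a ∈ A, a * a = 1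

theorem El.inv {A : Subgroup G} (h : El A) {a : G} (ha : a ∈ A) : a⁻¹ = a :=
  inv_eq_of_mul_eq_one_left (h a ha)

theorem El.comm {A : Subgroup G} (h : El A) {a b : G} (ha : a ∈ A) (hb : b ∈ A) : a * b = b * a := by
  rw [← h.inv (mul_mem ha hb), mul_inv_rev, h.inv ha, h.inv hb]

theorem El.le_cent {A : Subgroup G} (h : El A) : A ≤ centralizer (A : Set G) :=
  fun _ ha _ hb => h.comm hb ha

theorem El.mono {A B : Subgroup G} (h : El A) (hB : B ≤ A) : El B := fun a ha => h a (hB ha)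

theorem El.pgroup {A : Subgroup G} (h : El A) : IsPGroup 2 A :=
  isPGroup_iff_forall_mem.2 fun a ha => ⟨1, by rw [pow_one, pow_two, h a ha]⟩

theorem El.isComm {A : Subgroup G} (h : El A) : IsMulCommutative A :=
  ⟨⟨fun a b => Subtype.ext (h.comm a.2 b.2)⟩⟩

theorem El.cj {A : Subgroup G} (h : El A) (g : G) : El (g •ᶜ A) := fun a ha => by
  obtain ⟨b, hb, rfl⟩ := mem_cj'.1 ha
  rw [conj_mul, h b hb, mul_one, mul_inv_cancel]

theorem El.sup {A B : Subgroup G} (hA : El A) (hB : El B) (h : A ≤ centralizer (B : Set G)) :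
    El (A ⊔ B) := fun x hx => by
  obtain ⟨a, ha, b, hb, rfl⟩ := (mem_sup_of_normalizes_right (le_normalizer_of_le_centralizer h)).1 hx
  have : b * a = a * b := h ha b hb
  calc a * b * (a * b) = a * (b * a) * b := by group
    _ = (a * a) * (b * b) := by rw [this]; group
    _ = 1 := by rw [hA a ha, hB b hb, mul_one]

theorem mem_zp {z x : G} (hz : z * z = 1) : x ∈ zpowers z ↔ x = 1 ∨ x = z := by
  refine ⟨fun hx => ?_, fun h => h.elim (· ▸ one_mem _) (· ▸ mem_zpowers z)⟩
  obtain ⟨k, rfl⟩ := mem_zpowers_iff.1 hx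
  have h2 : z ^ (2 : ℤ) = 1 := by rw [zpow_two, hz]
  rcases Int.even_or_odd' k with ⟨j, rfl | rfl⟩
  · left; rw [zpow_mul, h2, one_zpow]
  · right; rw [zpow_add, zpow_mul, h2, one_zpow, one_mul, zpow_one]

theorem el_zp {z : G} (hz : z * z = 1) : El (zpowers z) := fun x hx => by
  rcases (mem_zp hz).1 hx with rfl | rfl
  · exact mul_one _
  · exact hz

theorem ord2 {z : G} (hz : z * z = 1) (h1 : z ≠ 1) : orderOf z = 2 :=
  orderOf_eq_prime (by rw [pow_two, hz]) h1

theorem card_zp {z : G} (hz : z * z = 1) (h1 : z ≠ 1) : Nat.card (zpowers z) = 2 := by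
  rw [Nat.card_zpowers, ord2 hz h1]

theorem mem_C {z x : G} : x ∈ centralizer ({z} : Set G) ↔ x * z = z * x :=
  mem_centralizer_singleton_iff

theorem norm_zp {z : G} (hz : z * z = 1) :
    normalizer (zpowers z : Set G) = centralizer ({z} : Set G) := by
  refine le_antisymm (fun g hg => ?_) (by rw [← centralizer_zpowers]; exact centralizer_le_normalizer _)
  rcases (mem_zp hz).1 (conj_mem_of_mem_normalizer hg (mem_zpowers z)) with e | e
  · rw [conj_eq_one_iff] at e
    rw [mem_C, e, mul_one, one_mul]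
  · exact mem_C.2 (mul_inv_eq_iff_eq_mul.1 e)

/-- `Ω₁ Z(X)` -/
def oz (X : Subgroup G) : Subgroup G where
  carrier := {x | x ∈ X ∧ x ∈ centralizer (X : Set G) ∧ x * x = 1}
  one_mem' := ⟨one_mem _, one_mem _, mul_one _⟩
  mul_mem' := fun {a b} ha hb => ⟨mul_mem ha.1 hb.1, mul_mem ha.2.1 hb.2.1, by
    have : b * a = a * b := ha.2.1 b hb.1
    calc a * b * (a * b) = a * (b * a) * b := by group
      _ = (a * a) * (b * b) := by rw [this]; group
      _ = 1 := by rw [ha.2.2, hb.2.2, mul_one]⟩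
  inv_mem' := fun {a} ha => ⟨inv_mem ha.1, inv_mem ha.2.1, by rw [← mul_inv_rev, ha.2.2, inv_one]⟩

theorem mem_oz {X : Subgroup G} {x : G} :
    x ∈ oz X ↔ x ∈ X ∧ x ∈ centralizer (X : Set G) ∧ x * x = 1 := Iff.rfl

theorem el_oz (X : Subgroup G) : El (oz X) := fun _ h => h.2.2

theorem oz_le (X : Subgroup G) : oz X ≤ X := fun _ h => h.1

theorem norm_oz [Finite G] {X M : Subgroup G} (h : M ≤ normalizer (X : Set G)) :
    M ≤ normalizer (oz X : Set G) := le_normalizer_of_cj_le fun g hg => cj_le_iff_forall.2 fun x hx =>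
  ⟨conj_mem_of_normalizes h hg hx.1, conj_mem_of_normalizes (le_normalizer_centralizer h) hg hx.2.1,
    by rw [conj_mul, hx.2.2, mul_one, mul_inv_cancel]⟩

theorem exists_oz [Finite G] {X : Subgroup G} (h : IsPGroup 2 X) (h1 : X ≠ ⊥) :
    ∃ z ∈ oz X, z ≠ 1 := by
  have : Fact (Nat.Prime 2) := ⟨Nat.prime_two⟩
  have h2 := inf_centralizer_ne_bot h h le_normalizer h1
  have h3 : 2 ∣ Nat.card ↥(X ⊓ centralizer (X : Set G)) :=
    dvd_card_of_isPGroup_le (h.to_le inf_le_left) h2 le_rfl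
  obtain ⟨⟨z, hz⟩, e⟩ := exists_prime_orderOf_dvd_card' 2 h3
  refine ⟨z, ⟨hz.1, hz.2, ?_⟩, fun e1 => ?_⟩
  · have := pow_orderOf_eq_one (⟨z, hz⟩ : ↥(X ⊓ centralizer (X : Set G)))
    rw [e, pow_two] at this
    exact congrArg Subtype.val this
  · subst e1
    have : (⟨1, hz⟩ : ↥(X ⊓ centralizer (X : Set G))) = 1 := rfl
    rw [this, orderOf_one] at e
    omega

theorem sq_le' {H : Type*} [Group H] [Finite H] (h : ∀ x : H, x * x = 1) (σ : H →* H)
    (hσ : ∀ x, σ (σ x) = x) : Nat.card H ≤ Nat.card (σ.eqLocus (MonoidHom.id H)) ^ 2 := by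
  have c : ∀ x y : H, x * y = y * x := fun x y =>
    El.comm (A := ⊤) (fun a _ => h a) (mem_top x) (mem_top y)
  let f : H →* H := MonoidHom.mk' (fun x => x * σ x) fun x y => by
    rw [map_mul, mul_assoc, mul_assoc, ← mul_assoc y, c y, mul_assoc]
  have h1 : f.ker ≤ σ.eqLocus (MonoidHom.id H) := fun x hx => by
    have : x * σ x = 1 := hx
    change σ x = x
    rw [← mul_left_cancel_iff (a := x), this, h]
  have h2 : f.range ≤ σ.eqLocus (MonoidHom.id H) := by
    rintro _ ⟨x, rfl⟩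
    change σ (x * σ x) = x * σ x
    rw [map_mul, hσ, c]
  rw [← f.ker.card_mul_index, index_ker, pow_two]
  exact Nat.mul_le_mul (card_le_of_le h1) (card_le_of_le h2)

theorem El.sq_le [Finite G] {A : Subgroup G} (h : El A) {t : G} (ht : t * t = 1)
    (hn : t ∈ normalizer (A : Set G)) :
    Nat.card A ≤ Nat.card ↥(A ⊓ centralizer ({t} : Set G)) ^ 2 := by
  let σ : A →* A := MonoidHom.mk' (fun a => ⟨t * a * t⁻¹, conj_mem_of_mem_normalizer hn a.2⟩)
    fun a b => Subtype.ext (conj_mul).symm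
  have := sq_le' (fun x : A => Subtype.ext (h x x.2)) σ fun x => Subtype.ext (by
    change t * (t * x * t⁻¹) * t⁻¹ = x
    calc t * (t * x * t⁻¹) * t⁻¹ = (t * t) * x * (t * t)⁻¹ := by group
      _ = x := by rw [ht]; group)
  refine this.trans (Nat.pow_le_pow_left (Nat.card_le_card_of_injective
    (fun x : σ.eqLocus (MonoidHom.id A) =>
      (⟨x.1.1, x.1.2, mem_C.2 (mul_inv_eq_iff_eq_mul.1 (congrArg Subtype.val x.2)).symm⟩ :
      ↥(A ⊓ centralizer ({t} : Set G)))) fun x y e => Subtype.ext (Subtype.ext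
        (congrArg (fun w : ↥(A ⊓ centralizer ({t} : Set G)) => (w : G)) e))) 2)

theorem El.card_pow [Finite G] {A : Subgroup G} (h : El A) : ∃ k, Nat.card A = 2 ^ k :=
  have : Fact (Nat.Prime 2) := ⟨Nat.prime_two⟩
  IsPGroup.iff_card.1 h.pgroup

theorem El.four_le [Finite G] {A : Subgroup G} (h : El A) (h2 : 2 < Nat.card A) : 4 ≤ Nat.card A := by
  obtain ⟨k, e⟩ := h.card_pow
  rw [e] at h2 ⊢
  rcases k with _ | _ | k
  · omega
  · omega
  · rw [pow_succ, pow_succ]; have := Nat.two_pow_pos k; omega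

theorem El.eight_le [Finite G] {A : Subgroup G} (h : El A) (h2 : 4 < Nat.card A) : 8 ≤ Nat.card A := by
  obtain ⟨k, e⟩ := h.card_pow
  rw [e] at h2 ⊢
  rcases k with _ | _ | _ | k
  · omega
  · omega
  · omega
  · rw [pow_succ, pow_succ, pow_succ]; have := Nat.two_pow_pos k; omega

theorem two_mul_le [Finite G] {A B : Subgroup G} (h : A < B) : 2 * Nat.card A ≤ Nat.card B := by
  obtain ⟨k, e⟩ := card_dvd_of_le h.le
  have h1 : Nat.card A < Nat.card B := lt_of_le_of_ne (card_le_of_le h.le) fun e =>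
    h.ne (eq_of_le_of_card_ge h.le e.ge)
  rcases k with _ | _ | k
  · have : 0 < Nat.card B := Nat.card_pos
    omega
  · omega
  · rw [e]; nlinarith

theorem exists_not_mem [Finite G] {A B : Subgroup G} (h : Nat.card B < Nat.card A) : ∃ a ∈ A, a ∉ B := by
  by_contra! hc
  exact absurd (card_le_of_le (show A ≤ B from hc)) (not_le.2 h)

theorem exists_ne [Finite G] {A : Subgroup G} (h : 2 < Nat.card A) {z : G} (hz : z * z = 1) :
    ∃ a ∈ A, a ≠ 1 ∧ a ≠ z := by
  have : Nat.card (zpowers z) ≤ 2 := by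
    rw [Nat.card_zpowers]; exact Nat.le_of_dvd two_pos (orderOf_dvd_of_pow_eq_one (by rw [pow_two, hz]))
  obtain ⟨a, ha, h1⟩ := exists_not_mem (A := A) (B := zpowers z) (by omega)
  rw [mem_zp hz, not_or] at h1
  exact ⟨a, ha, h1⟩

theorem card_two [Finite G] {z x : G} (hz : z * z = 1) (h1 : z ≠ 1) (hx1 : x ≠ 1) (hxz : x ≠ z)
    {X : Subgroup G} (hzX : z ∈ X) (hx : x ∈ X) : 4 ≤ Nat.card X := by
  have : zpowers z < X := lt_of_le_of_ne (zpowers_le.2 hzX) fun e =>
    ((mem_zp hz).1 (e ▸ hx)).elim hx1 hxz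
  have := two_mul_le this
  rwa [card_zp hz h1] at this

theorem El.four [Finite G] {X : Subgroup G} (h : El X) (h4 : Nat.card X ≤ 4) {z x w : G} (hz : z ∈ X)
    (h1 : z ≠ 1) (hx : x ∈ X) (hx1 : x ≠ 1) (hxz : x ≠ z) (hw : w ∈ X) (hw1 : w ≠ 1) (hwz : w ≠ z) :
    w = x ∨ w = x * z := by
  have hc : zpowers x ≤ centralizer (zpowers z : Set G) := fun a ha b hb =>
    h.comm (zpowers_le.2 hz hb) (zpowers_le.2 hx ha)
  have e : zpowers x ⊔ zpowers z = X := eq_of_le_of_card_ge (sup_le (zpowers_le.2 hx) (zpowers_le.2 hz))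
    (h4.trans (card_two (h z hz) h1 hx1 hxz (mem_sup_right (mem_zpowers z)) (mem_sup_left (mem_zpowers x))))
  obtain ⟨a, ha, b, hb, rfl⟩ := (mem_sup_of_normalizes_right (le_normalizer_of_le_centralizer hc)).1 (e ▸ hw)
  rcases (mem_zp (h x hx)).1 ha with rfl | rfl <;> rcases (mem_zp (h z hz)).1 hb with rfl | rfl
  · simp at hw1
  · simp at hwz
  · simp
  · simp

/-- 2-rank at most three -/
def Rk (G : Type*) [Group G] : Prop := ∀ A : Subgroup G, El A → Nat.card A ≤ 8

theorem Rk.prod (r : Rk G) {A B : Subgroup G} (hA : El A) (hB : El B) (h : A ≤ centralizer (B : Set G))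
    (hi : A ⊓ B = ⊥) : Nat.card A * Nat.card B ≤ 8 := by
  rw [← CL.card_sup_mul_card_inf_of_le_normalizer (le_normalizer_of_le_centralizer h), hi, card_bot,
    mul_one]
  exact r _ (hA.sup hB h)

theorem Rk.mem [Finite G] (r : Rk G) {A : Subgroup G} (hA : El A) (h8 : 4 < Nat.card A) {t : G}
    (ht : t * t = 1) (hc : ∀ a ∈ A, a * t = t * a) : t ∈ A := by
  by_contra hn
  have h1 := r _ (hA.sup (el_zp ht) (by rw [centralizer_zpowers]; exact fun a ha => mem_C.2 (hc a ha)))
  have h2 := two_mul_le (lt_of_le_of_ne (le_sup_left : A ≤ A ⊔ zpowers t) fun e =>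
    hn (e ▸ mem_sup_right (mem_zpowers t)))
  omega

theorem hom_triv {K H : Type*} [Group K] [Group H] [Finite H] (hK : commutator K = ⊤)
    (hH : Nat.card H < 60) (f : K →* H) (k : K) : f k = 1 := by
  have := CL.KI.solv_of_card_lt _ H rfl hH
  have : Group.IsPerfect K := ⟨hK⟩
  by_contra hk
  have : Nontrivial f.range := ⟨⟨⟨_, k, rfl⟩, 1, fun e => hk (congrArg Subtype.val e)⟩⟩
  refine (Group.IsSolvable.commutator_lt_top_of_nontrivial f.range).ne ?_
  have h := congrArg (map f.rangeRestrict) hK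
  rwa [_root_.commutator_def, map_commutator, map_top_of_surjective _ f.rangeRestrict_surjective] at h

theorem fix_of_orbit {K β : Type*} [Group K] [MulAction K β] (hK : commutator K = ⊤) {x : β}
    [Finite (MulAction.orbit K x)] (h : Nat.card (MulAction.orbit K x) ≤ 4) (k : K) : k • x = x := by
  classical
  have := Fintype.ofFinite (MulAction.orbit K x)
  have h1 := hom_triv hK (H := Equiv.Perm (MulAction.orbit K x)) (by
    rw [Nat.card_eq_fintype_card, Fintype.card_perm, ← Nat.card_eq_fintype_card]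
    exact lt_of_le_of_lt (Nat.factorial_le h) (by decide)) (MulAction.toPermHom K _) k
  exact congrArg Subtype.val (DFunLike.congr_fun h1 ⟨x, MulAction.mem_orbit_self x⟩)

theorem comm_top {K : Subgroup G} (hK : ⁅K, K⁆ = K) : commutator K = ⊤ := by
  apply map_injective K.subtype_injective
  rw [_root_.commutator_def, map_commutator, ← MonoidHom.range_eq_map, range_subtype, hK]

/-- conjugation action of a normalising subgroup -/
@[reducible] def cact {K V : Subgroup G} (hV : K ≤ normalizer (V : Set G)) : MulAction K V where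
  smul k v := ⟨k * v * k⁻¹, conj_mem_of_normalizes hV k.2 v.2⟩
  one_smul v := Subtype.ext (by change (1 : G) * v * (1 : G)⁻¹ = v; group)
  mul_smul a b v := Subtype.ext (by
    change (a * b : G) * v * (a * b : G)⁻¹ = a * (b * v * (b : G)⁻¹) * (a : G)⁻¹; group)

theorem comm_le [Finite G] {K U V : Subgroup G} (hK : ⁅K, K⁆ = K) (hU : K ≤ normalizer (U : Set G))
    (hV : K ≤ normalizer (V : Set G)) (h : U.relIndex V ≤ 4) : ⁅V, K⁆ ≤ U := by
  letI := cact hV
  haveI : MulAction.QuotientAction K (U.subgroupOf V) := ⟨fun k a b hab => by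
    rw [mem_subgroupOf] at hab ⊢
    have := conj_mem_of_normalizes hU k.2 hab
    change (k * a * (k : G)⁻¹ : G)⁻¹ * (k * b * (k : G)⁻¹) ∈ U
    convert this using 1
    simp only [coe_mul, coe_inv]
    group⟩
  rw [commutator_le]
  intro v hv k hk
  have := fix_of_orbit (comm_top hK) (x := ((⟨v⁻¹, inv_mem hv⟩ : V) : V ⧸ U.subgroupOf V))
    ((Nat.card_le_card_of_injective _ Subtype.val_injective).trans h) ⟨k, hk⟩
  rw [MulAction.Quotient.smul_coe, eq_comm, QuotientGroup.eq, mem_subgroupOf] at this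
  change (v⁻¹)⁻¹ * (k * v⁻¹ * k⁻¹) ∈ U at this
  rw [commutatorElement_def]
  convert this using 1
  group

theorem cent_of_comm_le {K U V : Subgroup G} (hK : ⁅K, K⁆ = K) (hU : K ≤ centralizer (U : Set G))
    (h : ⁅V, K⁆ ≤ U) : K ≤ centralizer (V : Set G) :=
  le_centralizer_symm (commutator_eq_bot_iff_le_centralizer.1 (CL.Comp.commutator_eq_bot_of_perfect hK
    (commutator_eq_bot_iff_le_centralizer.2 (h.trans (le_centralizer_symm hU)))))

theorem cent_of_relIndex [Finite G] {K U V : Subgroup G} (hK : ⁅K, K⁆ = K)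
    (hU : K ≤ centralizer (U : Set G)) (hV : K ≤ normalizer (V : Set G)) (h : U.relIndex V ≤ 4) :
    K ≤ centralizer (V : Set G) :=
  cent_of_comm_le hK hU (comm_le hK (le_normalizer_of_le_centralizer hU) hV h)

theorem two_trans [Finite G] {K A : Subgroup G} (hK : ⁅K, K⁆ = K) (hA : El A) (h8 : Nat.card A ≤ 8)
    (hn : K ≤ normalizer (A : Set G)) (hc : ¬ K ≤ centralizer (A : Set G)) :
    Nat.card A = 8 ∧ 7 ∣ Nat.card K ∧ ∀ a ∈ A, ∀ b ∈ A, ∀ c ∈ A, ∀ d ∈ A, a ≠ 1 → b ≠ 1 → c ≠ 1 → d ≠ 1 →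
      a ≠ b → c ≠ d → ∃ k ∈ K, k * a * k⁻¹ = c ∧ k * b * k⁻¹ = d := by
  classical
  have e8 : Nat.card A = 8 := le_antisymm h8 (hA.eight_le (not_le.1 fun h4 => hc
    (cent_of_relIndex (U := ⊥) hK (by simp [centralizer_eq_top_iff_subset.2]) hn (by rwa [relIndex_bot_left]))))
  have nf : ∀ a ∈ A, a ≠ 1 → ¬ ∀ k ∈ K, k * a * k⁻¹ = a := fun a ha h1 hf => hc (by
    refine cent_of_relIndex (U := zpowers a) hK ?_ hn ?_
    · rw [centralizer_zpowers]
      exact fun k hk => mem_C.2 (mul_inv_eq_iff_eq_mul.1 (hf k hk))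
    · have := relIndex_mul_relIndex ⊥ _ _ bot_le (zpowers_le.2 ha)
      rw [relIndex_bot_left, relIndex_bot_left, card_zp (hA a ha) h1] at this
      omega)
  let α := {a : A // a ≠ 1}
  letI : MulAction K α :=
    { smul := fun k v => ⟨⟨k * v.1 * k⁻¹, conj_mem_of_normalizes hn k.2 v.1.2⟩, fun e => v.2 (by
        have : (k : G) * v.1 * (k : G)⁻¹ = 1 := congrArg Subtype.val e
        exact Subtype.ext (conj_eq_one_iff.1 this))⟩
      one_smul := fun v => Subtype.ext (Subtype.ext (by change (1 : G) * v.1 * (1 : G)⁻¹ = v.1; group))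
      mul_smul := fun a b v => Subtype.ext (Subtype.ext (by
        change (a * b : G) * v.1 * (a * b : G)⁻¹ = a * (b * v.1 * (b : G)⁻¹) * (a : G)⁻¹; group)) }
  have sm : ∀ (k : K) (v w : α), k • v = w ↔ (k : G) * v.1 * (k : G)⁻¹ = w.1 := fun k v w =>
    ⟨fun e => congrArg (fun x : α => (x.1 : G)) e, fun e => Subtype.ext (Subtype.ext e)⟩
  have := Fintype.ofFinite A
  have c7 : Fintype.card α = 7 := by
    rw [Fintype.card_subtype_compl, Fintype.card_subtype_eq, ← Nat.card_eq_fintype_card, e8]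
  have big : ∀ v : α, 5 ≤ Nat.card (MulAction.orbit K v) := fun v => not_lt.1 fun h =>
    nf v.1 v.1.2 (fun e => v.2 (Subtype.ext e)) fun k hk =>
      (sm _ _ _).1 (fix_of_orbit (comm_top hK) (by omega) ⟨k, hk⟩)
  have tr : ∀ v w : α, ∃ k : K, k • v = w := fun v w => by
    by_contra hk
    have hd : Disjoint (MulAction.orbit K v) (MulAction.orbit K w) := by
      rw [Set.disjoint_left]
      rintro _ ⟨k, rfl⟩ ⟨l, e⟩
      exact hk ⟨l⁻¹ * k, by rw [mul_smul, inv_smul_eq_iff]; exact e.symm⟩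
    have h1 := Set.ncard_union_eq hd
    have h2 := Set.ncard_le_card (MulAction.orbit K v ∪ MulAction.orbit K w)
    have h3 := big v
    have h4 := big w
    rw [Nat.card_coe_set_eq] at h3 h4
    rw [Nat.card_eq_fintype_card, c7] at h2
    omega
  obtain ⟨v⟩ : Nonempty α := Fintype.card_pos_iff.1 (by omega)
  haveI : MulAction.IsPretransitive K α := ⟨tr⟩
  refine ⟨e8, ?_, fun a ha b hb c hc' d hd a1 b1 c1 d1 ab cd => ?_⟩
  · rw [← c7, ← Nat.card_eq_fintype_card, ← MulAction.index_stabilizer_of_transitive K v]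
    exact index_dvd_card _
  let f := MulAction.toPermHom K α
  haveI : MulAction.IsPretransitive f.range α := ⟨fun v w => (tr v w).elim fun k e => ⟨⟨f k, k, rfl⟩, e⟩⟩
  rcases Cfsg.Agent.S0675.result (by rw [c7]; norm_num) f.range with s | t
  · by_cases h : Nontrivial f.range
    · refine absurd ?_ (Group.IsSolvable.commutator_lt_top_of_nontrivial f.range).ne
      have h := congrArg (map f.rangeRestrict) (comm_top hK)
      rwa [_root_.commutator_def, map_commutator, map_top_of_surjective _ f.rangeRestrict_surjective] at h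
    · rw [not_nontrivial_iff_subsingleton] at h
      refine (nf v.1 v.1.2 (fun e => v.2 (Subtype.ext e)) fun k hk => (sm ⟨k, hk⟩ _ _).1 ?_).elim
      exact DFunLike.congr_fun (congrArg Subtype.val (h.elim ⟨f ⟨k, hk⟩, _, rfl⟩ 1)) v
  · have t' : ∀ a b c d : α, a ≠ b → c ≠ d → ∃ g : f.range, g • a = c ∧ g • b = d :=
      fun _ _ _ _ h h' => MulAction.is_two_pretransitive_iff.1 t h h'
    obtain ⟨⟨_, k, rfl⟩, e1, e2⟩ := t'
      ⟨⟨a, ha⟩, fun e => a1 (congrArg Subtype.val e)⟩ ⟨⟨b, hb⟩, fun e => b1 (congrArg Subtype.val e)⟩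
      ⟨⟨c, hc'⟩, fun e => c1 (congrArg Subtype.val e)⟩ ⟨⟨d, hd⟩, fun e => d1 (congrArg Subtype.val e)⟩
      (fun e => ab (congrArg (fun x : α => (x.1 : G)) e)) (fun e => cd (congrArg (fun x : α => (x.1 : G)) e))
    exact ⟨k, k.2, (sm _ _ _).1 e1, (sm _ _ _).1 e2⟩

end CL.R3
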