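import Mathlib
import Cfsg.Agent.INV.R3.A
import Cfsg.Agent.SPOR.LE.NW
import Cfsg.Agent.SPOR.LE.WPair

/-!
Large extraspecial subgroups in groups of 2-rank at most three.
-/

set_option autoImplicit false
open Cfsg Subgroup CL.MSS CL.LE CL.LX

namespace CL.R3

variable {G : Type*} [Group G] [Finite G]

theorem Rk.adj (r : Rk G) {E : Subgroup G} (hE : El E) (h : 2 < Nat.card E) {s t : G} (ss : s * s = 1)
    (tt : t * t = 1) (sE : s ∈ centralizer (E : Set G)) (tE : t ∈ centralizer (E : Set G))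
    (st : s * t = t * s) : s ∈ E ∨ t ∈ E ∨ s * t ∈ E := by
  by_cases hs : s ∈ E
  · exact Or.inl hs
  have c : E ≤ centralizer (zpowers s : Set G) := le_centralizer_symm (zpowers_le.2 sE)
  have h1 := two_mul_le (lt_of_le_of_ne (le_sup_left : E ≤ E ⊔ zpowers s) fun e =>
    hs (e ▸ mem_sup_right (mem_zpowers s)))
  have h2 := r.mem (hE.sup (el_zp ss) c) (by omega) tt fun a ha => mem_C.1
    (sup_le (fun e he => mem_C.2 (tE e he)) (zpowers_le.2 (mem_C.2 st)) ha)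
  obtain ⟨e, he, b, hb, rfl⟩ := (mem_sup_of_normalizes_right (le_normalizer_of_le_centralizer c)).1 h2
  rcases (mem_zp ss).1 hb with rfl | rfl
  · exact Or.inr (Or.inl (by rwa [mul_one]))
  · exact Or.inr (Or.inr (by rwa [st, mul_assoc, ss, mul_one]))

variable {D : Set G} {Q : G → Subgroup G} {n : ℕ} {z x t : G}

theorem wc_false (r : Rk G) (h : WC D Q n) (p : Pr D z t) : False := by
  rcases h.pair p with c | ⟨-, c⟩ | ⟨-, c⟩
  · have lz := h.lx p.zD
    have lt := h.lx p.tD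
    have nz : z ∉ Q t := fun e => p.ne (h.wc p.tD p.zD e)
    have nt : t ∉ Q z := fun e => p.ne (h.wc p.zD p.tD e).symm
    have hE : El (Q z ⊓ Q t) := fun y hy => (lz.sq y hy.1).resolve_right fun e =>
      nz (e ▸ mul_mem hy.2 hy.2)
    rcases r.adj hE (by rw [c.four]; omega) lz.z_sq lt.z_sq (fun y hy => lz.z_comm y hy.1)
      (fun y hy => lt.z_comm y hy.2) p.comm with e | e | e
    · exact nz e.2
    · exact nt e.1
    · exact nt ((mul_mem_cancel_left lz.z_mem).1 e.1)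
  · have := r _ c.left.sq
    rw [c.left.card] at this
    omega
  · have := r.prod c.left.sq c.right.sq (fun y hy w hw => (c.cc y hy w hw).symm)
      (eq_bot_iff.2 fun y hy => c.disj y hy.1.1 hy.2.1)
    rw [c.left.card, c.right.card] at this
    omega

omit [Finite G] in
theorem sqE {E : Subgroup G} (hE : El E) {u e : G} (hu : u ∈ centralizer (E : Set G)) (he : e ∈ E) :
    u * e * (u * e) = u * u := by
  calc u * e * (u * e) = u * (e * u) * e := by group
    _ = u * u * (e * e) := by rw [hu e he]; group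
    _ = _ := by rw [hE e he, mul_one]

omit [Finite G] in
theorem sq2 {a b c : G} (h : b * a = a * b * c) (hc : c * b = b * c) : a * b * (a * b) = a * a * (b * b) * c := by
  calc a * b * (a * b) = a * (b * a) * b := by group
    _ = a * a * b * (c * b) := by rw [h]; group
    _ = _ := by rw [hc]; group

/-- the elements `q`, `q'` of a non weakly closed pair -/
structure NQ (D : Set G) (Q : G → Subgroup G) (n : ℕ) (z x q s : G) : Prop where
  lf : LF D Q n
  p : NW D Q z x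
  qm : q ∈ Q x
  qz : q * z * q⁻¹ = z * x
  sm : s ∈ Q z
  sx : s * x * s⁻¹ = x * z

namespace NQ

variable {q s : G} (h : NQ D Q n z x q s)
include h

omit [Finite G]

theorem el : El (Q z ⊓ Q x) := fun _ he => h.lf.nw_sq h.p he.1 he.2

theorem zE : z ∈ Q z ⊓ Q x := ⟨h.lf.self_mem h.p.zD, (h.lf.nw_symm h.p).mem⟩

theorem xE : x ∈ Q z ⊓ Q x := ⟨h.p.mem, h.lf.self_mem h.p.xD⟩

theorem symm : NQ D Q n x z s q := ⟨h.lf, h.lf.nw_symm h.p, h.sm, h.sx, h.qm, h.qz⟩

theorem cm {a b : G} (ha : a ∈ Q z) (ax : a * x = x * a) (hb : b ∈ Q x) (bz : b * z = z * b) :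
    ∃ c ∈ Q z ⊓ Q x, b * a * b⁻¹ = c * a :=
  ⟨_, h.lf.nw_comm_mem h.p hb bz ha ax, by group⟩

theorem theta {a b : G} (ha : a ∈ Q z) (hc : a ∈ centralizer ((Q z ⊓ Q x : Subgroup G) : Set G))
    (hb : q * a * q⁻¹ = a * b) : b ∈ Q x ∧ b ∈ centralizer ((Q z ⊓ Q x : Subgroup G) : Set G) ∧
      (b ∈ Q z → a ∈ Q x) ∧ a * b = b * a ∧ (a * a = 1 → b * b = 1) ∧ (a * a = z → b * b = x) ∧
      ∃ e ∈ Q z ⊓ Q x, s * b * s⁻¹ = a * b * e := by
  have lz := h.lf.lx h.p.zD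
  have lx := h.lf.lx h.p.xD
  have xz := h.lf.nw_comm h.p
  have ax : a⁻¹ * x = x * a⁻¹ := (inv_mem hc x h.xE).symm
  have b1 : b ∈ Q x := by
    have := mul_mem (lx.norm _ ax q h.qm) (inv_mem h.qm)
    rwa [show a⁻¹ * q * a⁻¹⁻¹ * q⁻¹ = a⁻¹ * (q * a * q⁻¹) by group, hb, inv_mul_cancel_left] at this
  have b2 : b ∈ centralizer ((Q z ⊓ Q x : Subgroup G) : Set G) := by
    refine (mul_mem_cancel_left hc).1 (hb ▸ fun e he => ?_)
    have := hc (q⁻¹ * e * q⁻¹⁻¹) ⟨h.lf.nw_E_conj (h.lf.nw_symm h.p) he.2 he.1 (inv_mem h.qm),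
      (Q x).mul_mem ((Q x).mul_mem (inv_mem h.qm) he.2) (inv_mem (inv_mem h.qm))⟩
    calc e * (q * a * q⁻¹) = q * (q⁻¹ * e * q⁻¹⁻¹ * a) * q⁻¹ := by group
      _ = _ := by rw [this]; group
  have ab : a * b ∈ Q (x * z) := by
    rw [← hb, xz, ← h.qz]; exact h.lf.mem_conj h.p.zD q ha
  have bz : b⁻¹ * z = z * b⁻¹ := (inv_mem b2 z h.zE).symm
  have he : (a * b)⁻¹ * (s * b * s⁻¹) ∈ Q z ⊓ Q x := by
    have m1 : (a * b)⁻¹ * (s * b * s⁻¹) ∈ Q z := by
      have := mul_mem (lz.norm _ bz _ (mul_mem (inv_mem ha) h.sm)) (inv_mem h.sm)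
      convert this using 1
      group
    exact ⟨m1, h.lf.nw_of_third' h.p m1 (mul_mem (inv_mem ab) (h.sx ▸ h.lf.mem_conj h.p.xD s b1))⟩
  have e1 : a * b * (a * b) = q * (a * a) * q⁻¹ := by rw [← hb, conj_mul]
  have e2 : s * (b * b) * s⁻¹ = q * (a * a) * q⁻¹ := by
    rw [← e1, ← sqE h.el (mul_mem hc b2) he, mul_inv_cancel_left, conj_mul]
  have k1 : a * a = 1 → b * b = 1 := fun e => by
    rw [e, mul_one, mul_inv_cancel, conj_eq_one_iff] at e2
    exact e2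
  have k2 : a * a = z → b * b = x := fun e => by
    rw [e, h.qz, ← xz, ← h.sx] at e2
    exact mul_left_cancel (mul_right_cancel e2)
  refine ⟨b1, b2, fun m => (mul_mem_cancel_right b1).1
    (h.lf.nw_of_third' h.p (mul_mem ha m) ab), ?_, k1, k2, _, he, (mul_inv_cancel_left _ _).symm⟩
  have : a * b * (a * b) = a * a * (b * b) := by
    rcases lz.sq a ha with e | e
    · rw [e1, k1 e, e]; group
    · rw [e1, k2 e, e, h.qz]
  refine mul_left_cancel (a := a) (mul_right_cancel (b := b) ?_)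
  calc a * (a * b) * b = a * a * (b * b) := by group
    _ = _ := by rw [← this]; group

theorem cen {c : G} (hc : c ∈ Q x) (h1 : q * c * q⁻¹ = c) (h2 : ∀ l ∈ Q x, l * z = z * l → l * c * l⁻¹ = c) :
    c = 1 ∨ c = x := by
  have lx := h.lf.lx h.p.xD
  refine lx.cent c hc fun y hy => (mul_inv_eq_iff_eq_mul.1 ?_).symm
  by_cases e : y * z = z * y
  · exact h2 y hy e
  have nq : z * q ≠ q * z := fun e => lx.z_ne (by
    have := h.qz
    rw [← e, mul_inv_cancel_right] at this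
    exact left_eq_mul.1 this)
  have := h2 _ (mul_mem hy h.qm) (lx.toES.mul_comm_of_not_comm h.zE.2 hy h.qm (Ne.symm e) nq).symm
  rwa [show y * q * c * (y * q)⁻¹ = y * (q * c * q⁻¹) * y⁻¹ by group, h1] at this

theorem inv2 (no : ∀ y ∈ Q z, y ∈ centralizer ((Q z ⊓ Q x : Subgroup G) : Set G) → y * y = 1 → y ∈ Q x)
    {a a' b : G} (ha : a ∈ Q z) (hc : a ∈ centralizer ((Q z ⊓ Q x : Subgroup G) : Set G)) (ha' : a' ∈ Q z)
    (hc' : a' ∈ centralizer ((Q z ⊓ Q x : Subgroup G) : Set G)) (nc : a * a' ≠ a' * a)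
    (hb : q * a' * q⁻¹ = a' * b) : a * b * (a * b) = 1 := by
  have lz := h.lf.lx h.p.zD
  have lx := h.lf.lx h.p.xD
  have sz : ∀ {y w : G}, y ∈ Q z → y ∈ centralizer ((Q z ⊓ Q x : Subgroup G) : Set G) →
      w ∈ centralizer ((Q z ⊓ Q x : Subgroup G) : Set G) → y * w ≠ w * y → y * y = z :=
    fun {y w} m1 m2 m3 n => (lz.sq y m1).resolve_left fun e => n (m3 y ⟨m1, no y m1 m2 e⟩)
  have aa := sz ha hc hc' nc
  have aa' := sz ha' hc' hc nc.symm
  have a3 : a * a' * (a * a') = z := sz (mul_mem ha ha') (mul_mem hc hc') hc fun e =>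
    nc (mul_left_cancel (a := a) (by rw [← e, mul_assoc]))
  obtain ⟨b1, b2, -, b3, -, b4, e, he, b5⟩ := h.theta ha' hc' hb
  obtain ⟨d, hd⟩ : ∃ d, q * a * q⁻¹ = a * d := ⟨_, (mul_inv_cancel_left _ _).symm⟩
  obtain ⟨d1, d2, -, d3, -⟩ := h.theta ha hc hd
  obtain ⟨c, cE, ec⟩ := h.cm ha (hc x h.xE).symm b1 (b2 z h.zE).symm
  have ba : b * a = a * b * c := by
    rw [mul_inv_eq_iff_eq_mul.1 ec, hc c cE, mul_assoc, b2 c cE, mul_assoc]
  have s0 : a * b * (a * b) = z * x * c := by rw [sq2 ba (b2 c cE), aa, b4 aa']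
  have sE : z * x * c ∈ Q z ⊓ Q x := mul_mem (mul_mem h.zE h.xE) cE
  have ab := mul_mem hc b2
  have cE' : ∀ {g u v : G}, g * a * g⁻¹ = u * a → g * b * g⁻¹ = v * b → u ∈ Q z ⊓ Q x → v ∈ Q z ⊓ Q x →
      g * (z * x * c) * g⁻¹ = z * x * c := fun {g u v} e1 e2 hu hv => by
    rw [← s0, ← conj_mul, ← conj_mul, e1, e2, ← sqE h.el ab (mul_mem hu hv),
      show u * a * (v * b) = a * b * (u * v) by
        rw [hc u hu, b2 v hv, mul_assoc, ← mul_assoc u, b2 u hu]; group]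
  have es : ∀ {P : Subgroup G} {w y g : G}, ES P w → w ∈ Q z ⊓ Q x → y ∈ P → g ∈ P →
      ∃ v ∈ Q z ⊓ Q x, g * y * g⁻¹ = v * y := fun {P w y g} l hw hy hg =>
    (l.conj_cases hy hg).elim (fun e => ⟨1, one_mem _, by rw [e, one_mul]⟩)
      fun e => ⟨w, hw, by rw [e, l.z_comm y hy]⟩
  have k1 := h.cen sE.2 (by
    obtain ⟨v, hv, e2⟩ := es lx.toES h.xE b1 h.qm
    obtain ⟨c', hc'', e3⟩ := h.cm ha' (hc' x h.xE).symm d1 (d2 z h.zE).symm
    have db : d * b * (d * b) = x := by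
      rw [← sqE h.el (mul_mem d2 b2) hc'']
      refine (h.theta (mul_mem ha ha') (mul_mem hc hc') ?_).2.2.2.2.2.1 a3
      rw [← conj_mul, hd, hb, mul_assoc a d, ← mul_assoc d, mul_inv_eq_iff_eq_mul.1 e3, hc' c' hc'',
        mul_assoc a', d2 c' hc'', mul_assoc a', mul_assoc d, b2 c' hc'']
      group
    rw [← s0, ← conj_mul, ← conj_mul, hd, e2,
      show a * d * (v * b) = a * (d * b) * v by rw [b2 v hv]; group, sqE h.el (mul_mem hc (mul_mem d2 b2)) hv,
      sq2 (c := c) (by rw [mul_assoc, ba, ← mul_assoc, ← mul_assoc, ← d3]; group)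
        (mul_mem d2 b2 c cE), aa, db, s0]) fun l hl lz' => by
    obtain ⟨u, hu, e1⟩ := h.cm ha (hc x h.xE).symm hl lz'
    obtain ⟨v, hv, e2⟩ := es lx.toES h.xE b1 hl
    exact cE' e1 e2 hu hv
  have k2 := h.symm.cen sE.1 (by
    obtain ⟨v, hv, e2⟩ := es lz.toES h.zE ha h.sm
    rw [← s0, ← conj_mul, ← conj_mul, e2, b5,
      show v * a * (a' * b * e) = a * a' * b * (v * e) by
        rw [hc v hv, mul_assoc a, ← mul_assoc v, mul_mem hc' b2 v hv]; group,
      sqE h.el (mul_mem (mul_mem hc hc') b2) (mul_mem hv he),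
      sq2 (c := c) (by rw [← mul_assoc, ba, mul_assoc, hc' c cE, mul_assoc, ← mul_assoc b, ← b3]; group)
        (b2 c cE), a3, b4 aa', s0]) fun l hl lx' => by
    obtain ⟨u, hu, e1⟩ := h.symm.cm b1 (b2 z h.zE).symm hl lx'
    obtain ⟨v, hv, e2⟩ := es lz.toES h.zE ha hl
    exact cE' e2 e1 hv ⟨hu.2, hu.1⟩
  rw [s0]
  exact k1.resolve_right fun e => k2.elim (fun e' => lx.z_ne (e.symm.trans e'))
    fun e' => h.p.ne (e.symm.trans e')

end NQ

theorem nw_two (r : Rk G) (lf : LF D Q n) (p : NW D Q z x) : n = 2 ∧ Nat.card ↥(Q z ⊓ Q x) = 8 := by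
  obtain ⟨s, sm, sx⟩ := lf.nw_q p
  obtain ⟨q, qm, qz⟩ := lf.nw_q (lf.nw_symm p)
  have h : NQ D Q n z x q s := ⟨lf, p, qm, qz, sm, sx⟩
  have lz := lf.lx p.zD
  have lx := lf.lx p.xD
  have E2 : 2 < Nat.card ↥(Q z ⊓ Q x) :=
    lt_of_lt_of_le (by omega) (card_two lz.z_sq lz.z_ne lx.z_ne p.ne h.zE h.xE)
  have th : ∀ a : G, ∃ d, q * a * q⁻¹ = a * d := fun a => ⟨_, (mul_inv_cancel_left _ _).symm⟩
  have no : ∀ y ∈ Q z, y ∈ centralizer ((Q z ⊓ Q x : Subgroup G) : Set G) → y * y = 1 → y ∈ Q x := by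
    intro y hy hc yy
    obtain ⟨b, hb⟩ := th y
    obtain ⟨b1, b2, b3, b4, b5, -⟩ := h.theta hy hc hb
    rcases r.adj h.el E2 yy (b5 yy) hc b2 b4 with e | e | e
    · exact e.2
    · exact b3 e.1
    · exact (mul_mem_cancel_right b1).1 e.2
  have le : Q z ⊓ centralizer ((Q z ⊓ Q x : Subgroup G) : Set G) ≤ Q z ⊓ Q x := fun a ha => by
    by_contra n
    obtain ⟨a', ha', hc', nc⟩ := lz.toES.exists_centralizes_not_comm inf_le_left h.zE ha.1 n
    have hc := ha.2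
    have m3 := mul_mem ha.1 ha'
    have c3 : a * a' ∈ centralizer ((Q z ⊓ Q x : Subgroup G) : Set G) := Subgroup.mul_mem _ hc hc'
    have nE : ∀ {y w : G}, y ∈ Q z → w ∈ centralizer ((Q z ⊓ Q x : Subgroup G) : Set G) →
      y * w ≠ w * y → y ∉ Q x := fun m1 m2 n m => n (m2 _ ⟨m1, m⟩)
    have n2 : a' * (a * a') ≠ a * a' * a' := fun e => nc (mul_right_cancel (by rw [← e, mul_assoc]))
    have n3 : a * a' * a ≠ a * (a * a') := fun e => nc (mul_left_cancel (a := a) (by rw [← e, mul_assoc]))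
    obtain ⟨d, hd⟩ := th a
    obtain ⟨b, hb⟩ := th a'
    obtain ⟨f, hf⟩ := th (a * a')
    obtain ⟨d1, d2, -⟩ := h.theta ha.1 hc hd
    obtain ⟨b1, b2, -, b3, -⟩ := h.theta ha' hc' hb
    obtain ⟨f1, f2, -⟩ := h.theta m3 c3 hf
    have t1 := h.inv2 no ha.1 hc ha' hc' nc hb
    have t2 := h.inv2 no ha' hc' m3 c3 n2 hf
    have t3 := h.inv2 no m3 c3 ha.1 hc n3 hd
    obtain ⟨e, he, ee⟩ : ∃ e ∈ Q z ⊓ Q x, a * b * (a' * f) = a * a' * d * e := by
      obtain ⟨c', hc'', e3⟩ := h.cm ha' (hc' x h.xE).symm d1 (d2 z h.zE).symm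
      have e4 : f = d * b * c' := by
        refine mul_left_cancel (a := a * a') ?_
        rw [← hf, ← conj_mul, hd, hb, mul_assoc a d, ← mul_assoc d, mul_inv_eq_iff_eq_mul.1 e3, hc' c' hc'',
          mul_assoc a', d2 c' hc'', mul_assoc a', mul_assoc d, b2 c' hc'']
        group
      have bb : b * b ∈ Q z ⊓ Q x := (lx.sq b b1).elim (· ▸ one_mem _) (· ▸ h.xE)
      rcases lx.comm b b1 d d1 with e | e
      · refine ⟨b * b * c', mul_mem bb hc'', ?_⟩
        calc a * b * (a' * f) = a * (b * a') * (d * b * c') := by rw [e4]; group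
          _ = a * a' * (b * d) * b * c' := by rw [← b3]; group
          _ = _ := by rw [e]; group
      · refine ⟨b * b * x * c', mul_mem (mul_mem bb h.xE) hc'', ?_⟩
        calc a * b * (a' * f) = a * (b * a') * (d * b * c') := by rw [e4]; group
          _ = a * a' * (b * d) * b * c' := by rw [← b3]; group
          _ = a * a' * d * b * (x * b) * c' := by rw [e]; group
          _ = _ := by rw [← lx.z_comm b b1]; group
    have t4 : a * b * (a' * f) * (a * b * (a' * f)) = 1 := by rw [ee, sqE h.el (mul_mem c3 d2) he, t3]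
    rcases r.adj h.el E2 t1 t2 (Subgroup.mul_mem _ hc b2) (Subgroup.mul_mem _ hc' f2) (by
      rw [← inv_eq_of_mul_eq_one_left t4, mul_inv_rev, inv_eq_of_mul_eq_one_left t1,
        inv_eq_of_mul_eq_one_left t2]) with e | e | e
    · exact n ⟨ha.1, (mul_mem_cancel_right b1).1 e.2⟩
    · exact nE ha' hc nc.symm ((mul_mem_cancel_right f1).1 e.2)
    · rw [ee] at e
      exact nE m3 hc n3 ((mul_mem_cancel_right d1).1 (((Q x).mul_mem_cancel_right he.2).1 e.2))
  have c := lz.toES.card_centralizer (A := Q z ⊓ Q x) inf_le_left h.zE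
  rw [le_antisymm le (le_inf inf_le_left h.el.le_cent), lf.card p.zD] at c
  have h8 := r _ h.el
  have h2 := lf.two_le
  have h3 : 2 ^ (2 * 2 + 1) ≤ 2 ^ (2 * n + 1) := Nat.pow_le_pow_right two_pos (by omega)
  have h4 : Nat.card ↥(Q z ⊓ Q x) = 8 := by
    by_contra e
    have := Nat.mul_le_mul (show Nat.card ↥(Q z ⊓ Q x) ≤ 7 by omega) (show Nat.card ↥(Q z ⊓ Q x) ≤ 7 by omega)
    omega
  rw [h4] at c
  have : 2 ^ (2 * n + 1) = 2 ^ 5 := by omega
  have := Nat.pow_right_injective le_rfl this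
  exact ⟨by omega, h4⟩

end CL.R3
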