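import Mathlib
import Cfsg.Agent.INV.R3.A

/-!
Groups of 2-rank three and characteristic 2 type: an elementary abelian subgroup of order eight with
doubly transitive automiser.
-/

set_option autoImplicit false
open Cfsg Subgroup CL.MSS
open scoped commutatorElement

namespace CL.R3

variable {G : Type*} [Group G]

/-- the standing hypothesis -/
structure Hy (G : Type*) [Group G] : Prop where
  r : Rk G
  ch : ∀ X : Subgroup G, IsPGroup 2 X → X ≠ ⊥ → ChP 2 (normalizer (X : Set G))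
  nsc : ∀ S A : Subgroup G, SylIn 2 S ⊤ → El A → A ≠ ⊥ → A ≤ S →
    ∃ a ∈ A, ∃ g : G, g * a * g⁻¹ ∈ S ∧ g * a * g⁻¹ ∉ A

/-- no normal elementary abelian subgroup of `C(z)` beyond `⟨z⟩` -/
def Good (z : G) : Prop := z * z = 1 ∧ z ≠ 1 ∧ ∀ E : Subgroup G, El E → E ≤ centralizer ({z} : Set G) →
  centralizer ({z} : Set G) ≤ normalizer (E : Set G) → E ≤ zpowers z

theorem comm_of {A B : Subgroup G} (h : A ⊓ B = ⊥) {x b : G} (hx : x ∈ A) (hb : b ∈ B)
    (h1 : x ∈ normalizer (B : Set G)) (h2 : b ∈ normalizer (A : Set G)) : x * b = b * x := by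
  have : x * b * x⁻¹ * b⁻¹ ∈ A ⊓ B := ⟨by
    rw [mul_assoc, mul_assoc, ← mul_assoc b]
    exact mul_mem hx (conj_mem_of_mem_normalizer h2 (inv_mem hx)),
    B.mul_mem (conj_mem_of_mem_normalizer h1 hb) (inv_mem hb)⟩
  rw [h, mem_bot, mul_inv_eq_one, mul_inv_eq_iff_eq_mul] at this
  exact this

theorem conj_sq {a : G} (h : a * a = 1) (g : G) : g * a * g⁻¹ * (g * a * g⁻¹) = 1 := by
  rw [conj_mul, h, mul_one, mul_inv_cancel]

theorem cn_cj {A : Subgroup G} (h : ∀ a ∈ A, a ≠ 1 → centralizer ({a} : Set G) ≤ normalizer (A : Set G))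
    (g : G) : ∀ a ∈ g •ᶜ A, a ≠ 1 → centralizer ({a} : Set G) ≤ normalizer (g •ᶜ A : Set G) := by
  intro x hx h1
  obtain ⟨y, hy, rfl⟩ := mem_cj'.1 hx
  rw [← cj_centralizer_singleton, ← cj_normalizer]
  exact cj_mono g (h y hy fun e => h1 (conj_eq_one_iff.2 e))

theorem three_le {n : ℕ} {m : ℕ} (h : n ≤ m ^ 2) (h8 : 4 < n) : 2 < m := by
  by_contra! hc
  have := Nat.pow_le_pow_left hc 2
  omega

theorem Hy.sc [Finite G] (h : Hy G) {A : Subgroup G} (hA : El A) (h8 : 4 < Nat.card A)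
    (ti : ∀ g : G, ∀ a ∈ A, a ≠ 1 → g * a * g⁻¹ ∈ A → g ∈ normalizer (A : Set G)) : False := by
  have : Fact (Nat.Prime 2) := ⟨Nat.prime_two⟩
  have A1 : A ≠ ⊥ := fun e => by rw [e, card_bot] at h8; omega
  have cn : ∀ a ∈ A, a ≠ 1 → centralizer ({a} : Set G) ≤ normalizer (A : Set G) := fun a ha h1 g hg =>
    ti g a ha h1 (by rw [mem_C.1 hg, mul_inv_cancel_right]; exact ha)
  obtain ⟨S, hS, hAS⟩ := exists_sylIn_ge hA.pgroup (le_top : A ≤ ⊤)
  obtain ⟨z, hz, z1⟩ := exists_oz hS.pgroup fun e => A1 (eq_bot_iff.2 (e ▸ hAS))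
  have zA : z ∈ A := h.r.mem hA h8 hz.2.2 fun a ha => hz.2.1 a (hAS ha)
  obtain ⟨a, ha, g, tS, tA⟩ := h.nsc S A hS hA A1 hAS
  have tN : g * a * g⁻¹ ∈ normalizer (A : Set G) := cn z zA z1 (mem_C.2 (hz.2.1 _ tS))
  have t1 : g * a * g⁻¹ ≠ 1 := fun e => tA (e ▸ one_mem _)
  have hi : A ⊓ g •ᶜ A = ⊥ := eq_bot_iff.2 fun x hx => by
    obtain ⟨y, hy, rfl⟩ := mem_cj'.1 hx.2
    by_contra e
    exact tA (conj_mem_of_mem_normalizer (ti g y hy (fun e' => e (by simp [e'])) hx.1) ha)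
  have h4 := three_le (hA.sq_le (conj_sq (hA a ha) g) tN) h8
  have n0 : ∀ x ∈ A ⊓ centralizer ({g * a * g⁻¹} : Set G), x ∈ normalizer (g •ᶜ A : Set G) :=
    fun x hx => cn_cj cn g _ (conj_mem_cj ha) t1 hx.2
  obtain ⟨a0, h0, a1, -⟩ := exists_ne h4 (mul_one (1 : G))
  have h5 := three_le ((hA.cj g).sq_le (hA a0 h0.1) (n0 a0 h0)) (by rwa [card_cj])
  have e1 := hA.mono (inf_le_left : A ⊓ centralizer ({g * a * g⁻¹} : Set G) ≤ A)
  have e2 := (hA.cj g).mono (inf_le_left : g •ᶜ A ⊓ centralizer ({a0} : Set G) ≤ _)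
  have := h.r.prod e1 e2 (fun x hx b hb => (comm_of hi hx.1 hb.1 (n0 x hx) (cn a0 h0.1 a1 hb.2)).symm)
    (eq_bot_iff.2 (hi ▸ inf_le_inf inf_le_left inf_le_left))
  have := Nat.mul_le_mul (e1.four_le h4) (e2.four_le h5)
  omega

/-- double transitivity of the normaliser on the involutions of `A` -/
def T2 (A : Subgroup G) : Prop := ∀ a ∈ A, ∀ b ∈ A, ∀ c ∈ A, ∀ d ∈ A, a ≠ 1 → b ≠ 1 → c ≠ 1 → d ≠ 1 →
  a ≠ b → c ≠ d → ∃ k ∈ normalizer (A : Set G), k * a * k⁻¹ = c ∧ k * b * k⁻¹ = d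

theorem card_sup_zp [Finite G] {f z : G} (hf : f * f = 1) (hz : z * z = 1) (f1 : f ≠ 1) (z1 : z ≠ 1)
    (c : f * z = z * f) : Nat.card ↥(zpowers f ⊔ zpowers z) ≤ 4 := by
  have hc : zpowers f ≤ centralizer (zpowers z : Set G) := by
    rw [centralizer_zpowers, zpowers_le]; exact mem_C.2 c
  have := CL.card_sup_mul_card_inf_of_le_normalizer (le_normalizer_of_le_centralizer hc)
  rw [card_zp hf f1, card_zp hz z1] at this
  exact (Nat.le_mul_of_pos_right _ Nat.card_pos).trans this.le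

theorem uniq [Finite G] (r : Rk G) {A W : Subgroup G} (hA : El A) (h8 : Nat.card A = 8) (t2 : T2 A)
    {z : G} (hz : z ∈ A) (z1 : z ≠ 1) (hW : El W) (zW : z ∈ W)
    (hN : centralizer ({z} : Set G) ≤ normalizer (W : Set G)) (hne : ¬ W ≤ zpowers z) : W = A := by
  have zz := hA z hz
  have mv : ∀ f ∈ A, ∀ f' ∈ A, f ≠ 1 → f ≠ z → f' ≠ 1 → f' ≠ z →
      ∃ m ∈ normalizer (W : Set G), m * f * m⁻¹ = f' := fun f hf f' hf' a b c d => by
    obtain ⟨m, -, e1, e2⟩ := t2 z hz f hf z hz f' hf' z1 a z1 c b.symm d.symm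
    exact ⟨m, hN (mem_C.2 (mul_inv_eq_iff_eq_mul.1 e1)), e2⟩
  by_cases hi : ∃ f ∈ A, f ∈ W ∧ f ≠ 1 ∧ f ≠ z
  · obtain ⟨f, hf, fW, f1, fz⟩ := hi
    refine (eq_of_le_of_card_ge (fun x hx => ?_) (h8 ▸ r W hW)).symm
    by_cases x1 : x = 1
    · exact x1 ▸ one_mem _
    by_cases xz : x = z
    · exact xz ▸ zW
    obtain ⟨m, hm, rfl⟩ := mv f hf x hx f1 fz x1 xz
    exact conj_mem_of_mem_normalizer hm fW
  exfalso
  have hAW : ∀ x ∈ W, x ≠ 1 → x ≠ z → x ∉ A := fun x hx a b c => hi ⟨x, c, hx, a, b⟩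
  have inA : ∀ x ∈ W, (∀ a ∈ A, a * x = x * a) → x ∈ A := fun x hx => r.mem hA (by omega) (hW x hx)
  obtain ⟨x, xW, xz⟩ := SetLike.not_le_iff_exists.1 hne
  rw [mem_zp zz, not_or] at xz
  have nc : ∀ f ∈ A, f ≠ 1 → f ≠ z → ¬ W ≤ centralizer ({f} : Set G) := fun f hf a b hc =>
    hAW x xW xz.1 xz.2 (inA x xW fun y hy => by
      by_cases y1 : y = 1
      · rw [y1, one_mul, mul_one]
      by_cases yz : y = z
      · rw [yz]; exact hW.comm zW xW
      obtain ⟨m, hm, rfl⟩ := mv f hf y hy a b y1 yz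
      have := mem_C.1 (hc (conj_mem_of_mem_normalizer' hm xW))
      calc m * f * m⁻¹ * x = m * (f * (m⁻¹ * x * m)) * m⁻¹ := by group
        _ = _ := by rw [← this]; group)
  have cA : ∀ f ∈ A, f ∈ centralizer ({z} : Set G) := fun f hf => mem_C.2 (hA.comm hf hz)
  have nz : ∀ {y w : G}, y * z = z * y → w ≠ z → y * w * y⁻¹ ≠ z := fun {y w} c a e => a (by
    rw [mul_inv_eq_iff_eq_mul, ← c] at e; exact mul_left_cancel e)
  obtain ⟨f, hf, f1, fz⟩ := exists_ne (A := A) (by omega) zz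
  have ff := hA f hf
  have FA : zpowers f ⊔ zpowers z ≤ A := sup_le (zpowers_le.2 hf) (zpowers_le.2 hz)
  have w4 : 4 < Nat.card W := by
    by_contra! w4
    have k : ∀ f ∈ A, f ≠ 1 → f ≠ z → f * x * f⁻¹ = x * z := fun f hf a b => by
      refine (hW.four w4 zW z1 xW xz.1 xz.2 (conj_mem_of_mem_normalizer (hN (cA f hf)) xW)
        (fun e => xz.1 (conj_eq_one_iff.1 e)) (nz (hA.comm hf hz) xz.2)).resolve_left fun e => ?_
      refine nc f hf a b fun w hw => ?_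
      have c1 : x ∈ centralizer ({f} : Set G) := mem_C.2 (mul_inv_eq_iff_eq_mul.1 e).symm
      have c2 : z ∈ centralizer ({f} : Set G) := mem_C.2 (hA.comm hz hf)
      by_cases w1 : w = 1
      · exact w1 ▸ one_mem _
      by_cases wz : w = z
      · exact wz ▸ c2
      rcases hW.four w4 zW z1 xW xz.1 xz.2 hw w1 wz with rfl | rfl
      · exact c1
      · exact mul_mem c1 c2
    obtain ⟨f', hf', n⟩ := exists_not_mem (A := A) (B := zpowers f ⊔ zpowers z)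
      (by have := card_sup_zp ff zz f1 z1 (hA.comm hf hz); omega)
    have m1 : f ∈ zpowers f ⊔ zpowers z := mem_sup_left (mem_zpowers f)
    have m2 : z ∈ zpowers f ⊔ zpowers z := mem_sup_right (mem_zpowers z)
    have e1 := k f hf f1 fz
    have e2 := k f' hf' (fun e => n (e ▸ one_mem _)) fun e => n (e ▸ m2)
    have e3 := k (f * f') (mul_mem hf hf') (fun e => n ((mul_mem_cancel_left m1).1 (e ▸ one_mem _)))
      fun e => n ((mul_mem_cancel_left m1).1 (e ▸ m2))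
    have : f * f' * x * (f * f')⁻¹ = x := by
      calc f * f' * x * (f * f')⁻¹ = f * (f' * x * f'⁻¹) * f⁻¹ := by group
        _ = (f * x * f⁻¹) * (f * z * f⁻¹) := by rw [e2]; group
        _ = x * (z * z) := by rw [e1, hA.comm hf hz]; group
        _ = x := by rw [zz, mul_one]
    rw [this] at e3
    exact z1 (left_eq_mul.1 e3)
  have X4 : Nat.card ↥(W ⊓ centralizer ({f} : Set G)) ≤ 4 := by
    have := two_mul_le (lt_of_le_of_ne (inf_le_left : W ⊓ centralizer ({f} : Set G) ≤ W)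
      fun e => nc f hf f1 fz (e ▸ inf_le_right))
    have := r W hW
    omega
  obtain ⟨x1, h1, n1, n2⟩ := exists_ne (three_le (hW.sq_le ff (hN (cA f hf))) w4) zz
  have K1 : ∀ y, y * z = z * y → y * f = f * y → y * x1 * y⁻¹ = x1 ∨ y * x1 * y⁻¹ = x1 * z :=
    fun y c1 c2 => (hW.mono inf_le_left).four X4 ⟨zW, mem_C.2 (hA.comm hz hf)⟩ z1 h1 n1 n2
      ⟨conj_mem_of_mem_normalizer (hN (mem_C.2 c1)) h1.1,
        Subgroup.mul_mem _ (Subgroup.mul_mem _ (mem_C.2 c2) h1.2) (Subgroup.inv_mem _ (mem_C.2 c2))⟩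
      (fun e => n1 (conj_eq_one_iff.1 e)) (nz c1 n2)
  obtain ⟨m, hm, m1, m2⟩ := t2 z hz f hf f hf z hz z1 f1 f1 z1 (Ne.symm fz) fz
  obtain ⟨x2, e2⟩ : ∃ x2, x2 = m * x1 * m⁻¹ := ⟨_, rfl⟩
  have K2 : ∀ y, y * z = z * y → y * f = f * y → y * x2 * y⁻¹ = x2 ∨ y * x2 * y⁻¹ = x2 * f := by
    intro y c1 c2
    have a : y * x2 * y⁻¹ = m * ((m⁻¹ * y * m) * x1 * (m⁻¹ * y * m)⁻¹) * m⁻¹ := by rw [e2]; group
    have b : ∀ u : G, y * (m * u * m⁻¹) = (m * u * m⁻¹) * y → m⁻¹ * y * m * u = u * (m⁻¹ * y * m) :=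
      fun u e => by
        calc m⁻¹ * y * m * u = m⁻¹ * (y * (m * u * m⁻¹)) * m := by group
          _ = _ := by rw [e]; group
    rcases K1 (m⁻¹ * y * m) (b z (by rw [m1, c2])) (b f (by rw [m2, c1])) with e | e
    · left; rw [a, e, e2]
    · right; rw [a, e, e2, ← m1]; group
  have c1z : x1 * z = z * x1 := hW.comm h1.1 zW
  have c1f : x1 * f = f * x1 := mem_C.1 h1.2
  have c2f : x2 * f = f * x2 := by rw [e2, ← m1, conj_mul, conj_mul, c1z]
  have c2z : x2 * z = z * x2 := by rw [e2, ← m2, conj_mul, conj_mul, c1f]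
  have s1 := hW x1 h1.1
  have s2 : x2 * x2 = 1 := e2 ▸ conj_sq s1 m
  have c12 : x1 * x2 = x2 * x1 := by
    rcases K1 x2 c2z c2f with e | e
    · exact (mul_inv_eq_iff_eq_mul.1 e).symm
    rcases K2 x1 c1z c1f with e' | e'
    · exact mul_inv_eq_iff_eq_mul.1 e'
    rw [inv_eq_of_mul_eq_one_left s2] at e
    rw [inv_eq_of_mul_eq_one_left s1] at e'
    refine (fz ?_).elim
    calc f = (x2 * x2) * f := by rw [s2, one_mul]
      _ = x2 * f * x2 := by rw [mul_assoc, mul_assoc, c2f]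
      _ = x1 * (x2 * x1 * x2) := by rw [← e']; group
      _ = z := by rw [e, ← mul_assoc, s1, one_mul]
  have x1A := hAW x1 h1.1 n1 n2
  have FC : ∀ {y : G}, y * z = z * y → y * f = f * y →
      zpowers f ⊔ zpowers z ≤ centralizer ({y} : Set G) := fun a b =>
    sup_le (zpowers_le.2 (mem_C.2 b.symm)) (zpowers_le.2 (mem_C.2 a.symm))
  have hc : zpowers f ⊔ zpowers z ≤ centralizer (zpowers x1 : Set G) := by
    rw [centralizer_zpowers]; exact FC c1z c1f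
  have x2T : x2 ∈ (zpowers f ⊔ zpowers z) ⊔ zpowers x1 := by
    refine r.mem ((hA.mono FA).sup (el_zp s1) hc) ?_ s2 fun a ha =>
      mem_C.1 (sup_le (FC c2z c2f) (zpowers_le.2 (mem_C.2 c12)) ha)
    have := two_mul_le (lt_of_le_of_ne (le_sup_left : zpowers f ⊔ zpowers z ≤ _ ⊔ zpowers x1) fun e =>
      x1A (FA (e ▸ mem_sup_right (mem_zpowers x1))))
    have := card_two zz z1 f1 fz (X := zpowers f ⊔ zpowers z) (mem_sup_right (mem_zpowers z))
      (mem_sup_left (mem_zpowers f))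
    omega
  obtain ⟨φ, hφ, b, hb, e⟩ := (mem_sup_of_normalizes_right (le_normalizer_of_le_centralizer hc)).1 x2T
  rcases (mem_zp s1).1 hb with rfl | rfl
  · rw [mul_one] at e
    have := conj_mem_of_mem_normalizer' hm (FA hφ)
    rw [e, e2] at this
    exact x1A (by simpa [mul_assoc] using this)
  refine x1A (inA b h1.1 fun v hv => ?_)
  refine (K1 v (hA.comm hv hz) (hA.comm hv hf)).elim mul_inv_eq_iff_eq_mul.1 fun e1 => ?_
  have e3 : v * x2 * v⁻¹ = x2 * z := by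
    rw [← e, ← conj_mul, e1, hA.comm hv (FA hφ), mul_inv_cancel_right, mul_assoc]
  rcases K2 v (hA.comm hv hz) (hA.comm hv hf) with e4 | e4 <;> rw [e3] at e4
  · exact (z1 (mul_eq_left.1 e4)).elim
  · exact (fz (mul_left_cancel e4).symm).elim

theorem Hy.caseI [Finite G] (h : Hy G) {K A : Subgroup G} (hK : ⁅K, K⁆ = K) (hA : El A)
    (hn : K ≤ normalizer (A : Set G)) (hc : ¬ K ≤ centralizer (A : Set G)) :
    7 ∣ Nat.card G ∧ ∃ z : G, Good z := by
  obtain ⟨h8, h7, t⟩ := two_trans hK hA (h.r A hA) hn hc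
  have t2 : T2 A := fun a ha b hb c hc d hd a1 b1 c1 d1 ab cd =>
    (t a ha b hb c hc d hd a1 b1 c1 d1 ab cd).elim fun k e => ⟨k, hn e.1, e.2⟩
  obtain ⟨z, hz, z1, -⟩ := exists_ne (A := A) (by omega) (mul_one (1 : G))
  have zz := hA z hz
  refine ⟨h7.trans (card_subgroup_dvd_card K), z, zz, z1, fun E hE h1 h2 => by_contra fun hne => ?_⟩
  have e := uniq h.r hA h8 t2 hz z1 (hE.sup (el_zp zz) (by rwa [centralizer_zpowers]))
    (mem_sup_right (mem_zpowers z)) (le_normalizer_sup h2 (norm_zp zz).ge) fun c => hne (le_sup_left.trans c)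
  have cz : centralizer ({z} : Set G) ≤ normalizer (A : Set G) :=
    e ▸ le_normalizer_sup h2 (norm_zp zz).ge
  have cn : ∀ a ∈ A, a ≠ 1 → centralizer ({a} : Set G) ≤ normalizer (A : Set G) := fun a ha a1 => by
    obtain ⟨b, hb, b1, bz⟩ := exists_ne (A := A) (by omega) zz
    obtain ⟨d, hd, d1, da⟩ := exists_ne (A := A) (by omega) (hA a ha)
    obtain ⟨k, hk, rfl, -⟩ := t2 z hz b hb a ha d hd z1 b1 a1 d1 bz.symm da.symm
    rw [← cj_centralizer_singleton]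
    exact cj_le_of_mem cz hk
  refine h.sc hA (by omega) fun g a ha a1 hb => mem_normalizer_iff_cj.2 ?_
  have b1 : g * a * g⁻¹ ≠ 1 := fun e => a1 (conj_eq_one_iff.1 e)
  refine uniq h.r hA h8 t2 hb b1 (hA.cj g) (conj_mem_cj ha) (cn_cj cn g _ (conj_mem_cj ha) b1) fun c => ?_
  have := card_le_of_le c
  rw [card_cj, card_zp (hA _ hb) b1] at this
  omega

end CL.R3
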