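import Mathlib
import Cfsg.Agent.INV.R3.B
import Cfsg.Agent.PLOC.PFrattini

/-!
Groups of 2-rank three and characteristic 2 type: a maximal perfect subgroup of an involution centraliser.
-/

set_option autoImplicit false
open Cfsg Subgroup CL.MSS
open scoped commutatorElement

namespace CL.R3

variable {G : Type*} [Group G]

theorem exists_perf [Finite G] {H : Subgroup G} (h : ¬ Group.IsSolvable H) :
    ∃ K ≤ H, ⁅K, K⁆ = K ∧ K ≠ ⊥ := by
  obtain ⟨_, ⟨n, rfl⟩, hm⟩ := WellFounded.has_min (wellFounded_lt (α := Subgroup H))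
    (Set.range (derivedSeries H)) ⟨_, 0, rfl⟩
  have e : ⁅derivedSeries H n, derivedSeries H n⁆ = derivedSeries H n :=
    (commutator_le_left _ _).lt_or_eq.resolve_left (hm _ ⟨n + 1, rfl⟩)
  exact ⟨_, map_subtype_le _, by rw [← map_commutator, e], fun e =>
    h ⟨n, (Subgroup.map_eq_bot_iff_of_injective _ H.subtype_injective).1 e⟩⟩

theorem not_solv {K H : Subgroup G} (hK : ⁅K, K⁆ = K) (h1 : K ≠ ⊥) (h : K ≤ H) :
    ¬ Group.IsSolvable H := fun _ => by
  have : Group.IsSolvable K := Group.isSolvable_of_isSolvable_injective (inclusion_injective h)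
  have := (nontrivial_iff_ne_bot K).2 h1
  exact (Group.IsSolvable.commutator_lt_top_of_nontrivial K).ne (comm_top hK)

theorem not_pgroup [Finite G] {K : Subgroup G} (hK : ⁅K, K⁆ = K) (h1 : K ≠ ⊥) : ¬ IsPGroup 2 K := fun h =>
  have : Fact (Nat.Prime 2) := ⟨Nat.prime_two⟩
  have := h.isNilpotent
  not_solv hK h1 le_rfl inferInstance

/-- the data of the second case -/
structure MK (K : Subgroup G) : Prop where
  h : Hy G
  all : ∀ K A : Subgroup G, ⁅K, K⁆ = K → El A → K ≤ normalizer (A : Set G) → K ≤ centralizer (A : Set G)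
  perf : ⁅K, K⁆ = K
  ne : K ≠ ⊥
  ex : ∃ e : G, e * e = 1 ∧ e ≠ 1 ∧ K ≤ centralizer ({e} : Set G)
  max : ∀ e : G, e * e = 1 → e ≠ 1 → K ≤ centralizer ({e} : Set G) → ∀ L : Subgroup G, ⁅L, L⁆ = L →
    L ≤ centralizer ({e} : Set G) → L ≤ K

theorem Hy.exists_MK [Finite G] (h : Hy G)
    (all : ∀ K A : Subgroup G, ⁅K, K⁆ = K → El A → K ≤ normalizer (A : Set G) → K ≤ centralizer (A : Set G))
    {X : Subgroup G} (hX : IsPGroup 2 X) (X1 : X ≠ ⊥) (hs : ¬ Group.IsSolvable (normalizer (X : Set G))) :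
    ∃ K : Subgroup G, MK K := by
  obtain ⟨K0, h0, p0, n0⟩ := exists_perf hs
  obtain ⟨e, he, e1⟩ := exists_oz hX X1
  have c0 : K0 ≤ centralizer ({e} : Set G) := fun k hk =>
    mem_C.2 (all K0 _ p0 (el_oz X) (norm_oz h0) hk e he).symm
  obtain ⟨K, h1, hK⟩ := Finite.exists_le_maximal (p := fun K : Subgroup G => ⁅K, K⁆ = K ∧
    ∃ e : G, e * e = 1 ∧ e ≠ 1 ∧ K ≤ centralizer ({e} : Set G)) ⟨p0, e, he.2.2, e1, c0⟩
  refine ⟨K, h, all, hK.1.1, fun e => n0 (eq_bot_iff.2 (e ▸ h1)), hK.1.2, fun e a b c L d f => ?_⟩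
  refine le_sup_right.trans (hK.2 (y := K ⊔ L) ⟨le_antisymm
    (commutator_le_left_of_normalizes le_normalizer) (sup_le ?_ ?_), e, a, b, sup_le c f⟩ le_sup_left)
  · exact hK.1.1.ge.trans (commutator_mono le_sup_left le_sup_left)
  · exact d.ge.trans (commutator_mono le_sup_right le_sup_right)

namespace MK

variable [Finite G] {K : Subgroup G} (m : MK K)
include m

theorem ti {a g : G} (aa : a * a = 1) (a1 : a ≠ 1) (h1 : K ≤ centralizer ({a} : Set G))
    (h2 : K ≤ centralizer ({g * a * g⁻¹} : Set G)) : g ∈ normalizer (K : Set G) :=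
  mem_normalizer_of_cj_le (m.max _ (conj_sq aa g) (fun e => a1 (conj_eq_one_iff.1 e)) h2 _
    (by rw [← cj_commutator, m.perf]) (by rw [← cj_centralizer_singleton]; exact cj_mono g h1))

theorem cn {a : G} (aa : a * a = 1) (a1 : a ≠ 1) (h1 : K ≤ centralizer ({a} : Set G)) :
    centralizer ({a} : Set G) ≤ normalizer (K : Set G) := fun g hg =>
  m.ti aa a1 h1 (by rwa [mem_C.1 hg, mul_inv_cancel_right])

theorem kc {E : Subgroup G} (hE : El E) (hN : normalizer (K : Set G) ≤ normalizer (E : Set G)) {a : G}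
    (ha : a ∈ E) : K ≤ centralizer ({a} : Set G) := fun _ hk =>
  mem_C.2 (m.all K E m.perf hE (le_normalizer.trans hN) hk a ha).symm

theorem le4 {E : Subgroup G} (hE : El E) (hN : normalizer (K : Set G) ≤ normalizer (E : Set G)) :
    Nat.card E ≤ 4 := not_lt.1 fun h => m.h.sc hE h fun _ a ha a1 hb =>
  hN (m.ti (hE a ha) a1 (m.kc hE hN ha) (m.kc hE hN hb))

theorem nc : ¬ K ≤ centralizer (pCoreOf 2 K : Set G) := fun h => by
  have : Fact (Nat.Prime 2) := ⟨Nat.prime_two⟩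
  obtain ⟨e, ee, e1, he⟩ := m.ex
  have c := m.h.ch _ (el_zp ee).pgroup (by rwa [Ne, zpowers_eq_bot])
  rw [norm_zp ee] at c
  exact not_pgroup m.perf m.ne ((oP_isPGroup K).to_le
    ((le_inf le_rfl h).trans (c.of_normal he (m.cn ee e1 he)).le))

theorem syl : ∃ S : Subgroup G, SylIn 2 S ⊤ ∧ S ≤ normalizer (K : Set G) := by
  have : Fact (Nat.Prime 2) := ⟨Nat.prime_two⟩
  obtain ⟨e, ee, e1, he⟩ := m.ex
  have c := m.h.ch _ (el_zp ee).pgroup (by rwa [Ne, zpowers_eq_bot])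
  rw [norm_zp ee] at c
  have eQ : e ∈ pCoreOf 2 (centralizer ({e} : Set G)) := le_oP (el_zp ee).pgroup
    (zpowers_le.2 (mem_C.2 rfl)) (norm_zp ee).ge (mem_zpowers e)
  obtain ⟨S, hS, hQ⟩ := exists_sylIn_ge (oP_isPGroup (p := 2) (centralizer ({e} : Set G))) (le_top (a := _))
  obtain ⟨z, hz, z1⟩ := exists_oz hS.pgroup fun h => e1 (mem_bot.1 (h ▸ hQ eQ))
  have zc : z ∈ centralizer (pCoreOf 2 (centralizer ({e} : Set G)) : Set G) := fun y hy => hz.2.1 y (hQ hy)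
  have zo : z ∈ oz (pCoreOf 2 (centralizer ({e} : Set G))) :=
    ⟨c.le ⟨mem_C.2 (zc e eQ).symm, zc⟩, zc, hz.2.2⟩
  have kz : K ≤ centralizer ({z} : Set G) := fun k hk =>
    mem_C.2 (m.all K _ m.perf (el_oz _) (norm_oz (he.trans (oP_normal _))) hk z zo).symm
  exact ⟨S, hS, fun s hs => m.cn hz.2.2 z1 kz (mem_C.2 (hz.2.1 s hs))⟩

theorem small (h : ∀ E : Subgroup G, El E → normalizer (K : Set G) ≤ normalizer (E : Set G) → Nat.card E ≤ 2) :
    ∃ z : G, Good z ∧ ¬ Group.IsSolvable (centralizer ({z} : Set G)) := by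
  have R1 : pCoreOf 2 K ≠ ⊥ := fun e => m.nc (by rw [e]; simp [centralizer_eq_top_iff_subset.2])
  obtain ⟨z, hz, z1⟩ := exists_oz (oP_isPGroup K) R1
  have n := norm_oz (normalizer_le_normalizer_oP (p := 2) K)
  have zz := hz.2.2
  have e : zpowers z = oz (pCoreOf 2 K) := eq_of_le_of_card_ge (zpowers_le.2 hz)
    (by rw [card_zp zz z1]; exact h _ (el_oz _) n)
  have kz := m.kc (el_oz _) n hz
  rw [← e, norm_zp zz] at n
  refine ⟨z, ⟨zz, z1, fun E hE h1 h2 => ?_⟩, not_solv m.perf m.ne kz⟩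
  refine le_sup_left.trans (eq_of_le_of_card_ge (le_sup_right : zpowers z ≤ E ⊔ zpowers z) ?_).ge
  rw [card_zp zz z1]
  exact h _ (hE.sup (el_zp zz) (by rwa [centralizer_zpowers]))
    (n.trans (le_normalizer_sup h2 (norm_zp zz).ge))

theorem exV {E : Subgroup G} (hE : El E) (hN : normalizer (K : Set G) ≤ normalizer (E : Set G))
    (h2 : 2 < Nat.card E) : ∃ V : Subgroup G, E ≤ V ∧ V ≤ centralizer (E : Set G) ∧ (∀ v ∈ V, v * v ∈ E) ∧
      normalizer (K : Set G) ≤ normalizer (V : Set G) ∧ ¬ K ≤ centralizer (V : Set G) := by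
  have : Fact (Nat.Prime 2) := ⟨Nat.prime_two⟩
  have KE := m.all K E m.perf hE (le_normalizer.trans hN)
  obtain ⟨P, -, hP⟩ := exists_minimal_le_of_wellFoundedLT (fun P : Subgroup G => P ≤ pCoreOf 2 K ∧
    normalizer (K : Set G) ≤ normalizer (P : Set G) ∧ ¬ K ≤ centralizer (P : Set G)) _
    ⟨le_rfl, normalizer_le_normalizer_oP K, m.nc⟩
  obtain ⟨⟨h1, h3, h4⟩, mn⟩ := hP
  have PK : P ≤ K := h1.trans (oP_le K)
  have p2 : IsPGroup 2 P := (oP_isPGroup K).to_le h1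
  have KP : K ≤ normalizer (P : Set G) := le_normalizer.trans h3
  have P1 : P ≠ ⊥ := fun e => h4 (by rw [e]; simp [centralizer_eq_top_iff_subset.2])
  have e1 : P ≤ ⁅P, K⁆ := mn ⟨(commutator_le_left_of_normalizes KP).trans h1,
    le_normalizer_commutator h3 le_rfl, fun c => h4 (cent_of_comm_le m.perf c le_rfl)⟩
    (commutator_le_left_of_normalizes KP)
  have fr : K ≤ centralizer ((frattini P).map P.subtype : Set G) := by
    by_contra c
    have := (nontrivial_iff_ne_bot P).2 P1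
    refine CL.PG.frattini_ne_top (P := P) (map_injective P.subtype_injective ?_)
    rw [← MonoidHom.range_eq_map, range_subtype]
    refine le_antisymm (map_subtype_le _) (mn ⟨(map_subtype_le _).trans h1, h3.trans ?_, c⟩ (map_subtype_le _))
    refine le_normalizer_of_cj_le fun g hg => cj_le_iff_forall.2 ?_
    rintro _ ⟨x, hx, rfl⟩
    exact ⟨_, (characteristic_iff_map_le.1 inferInstance (P.normalizerMonoidHom ⟨g, hg⟩)) ⟨x, hx, rfl⟩, rfl⟩
  have sq : ∀ x ∈ P, ∀ k ∈ K, x * x * k = k * (x * x) := fun x hx k hk =>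
    fr hk _ (pow_two x ▸ CL.PG.pow_mem_frattini_map p2 hx)
  have cm : ∀ x ∈ P, ∀ y ∈ P, ∀ k ∈ K, ⁅x, y⁆ * k = k * ⁅x, y⁆ := fun x hx y hy k hk =>
    fr hk _ (CL.PG.commutator_le_frattini_map p2 (commutator_mem_commutator hx hy))
  have four : ∀ x ∈ P, ∀ y ∈ P, (x * y) ^ 4 = x ^ 4 * y ^ 4 := fun x hx y hy => by
    obtain ⟨c, hc⟩ : ∃ c, c = ⁅y, x⁆ := ⟨_, rfl⟩
    have cx : Commute c x := hc ▸ cm y hy x hx x (PK hx)
    have cy : Commute c y := hc ▸ cm y hy x hx y (PK hy)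
    have yx : y * x = c * x * y := by rw [hc, commutatorElement_def]; group
    have cc : c * c = 1 := by
      have a := sq y hy x (PK hx)
      have b : y * y * x = c * c * (x * (y * y)) := by
        calc y * y * x = y * (y * x) := by group
          _ = (y * c) * x * y := by rw [yx]; group
          _ = c * (y * x) * y := by rw [← cy.eq]; group
          _ = _ := by rw [yx]; group
      rw [a] at b
      exact right_eq_mul.1 b
    have s2 : (x * y) ^ 2 = c * (x * x) * (y * y) := by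
      calc (x * y) ^ 2 = x * (y * x) * y := by rw [pow_two]; group
        _ = (x * c) * x * y * y := by rw [yx]; group
        _ = _ := by rw [← cx.eq]; group
    have xy : Commute (x * x) (y * y) := sq x hx _ (PK (mul_mem hy hy))
    rw [show 4 = 2 * 2 from rfl, pow_mul, pow_mul, pow_mul, s2,
      ((cy.mul_right cy).mul_left xy).mul_pow, (cx.mul_right cx).mul_pow, pow_two c, cc, one_mul,
      pow_two x, pow_two y]
  let Z : Subgroup G :=
    { carrier := {x | x ∈ P ∧ x ^ 4 = 1}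
      one_mem' := ⟨one_mem _, one_pow _⟩
      mul_mem' := fun {a b} ha hb => ⟨mul_mem ha.1 hb.1, by rw [four a ha.1 b hb.1, ha.2, hb.2, mul_one]⟩
      inv_mem' := fun {a} ha => ⟨inv_mem ha.1, by rw [inv_pow, ha.2, inv_one]⟩ }
  have hZ : P ≤ Z := e1.trans (commutator_le.2 fun x hx k hk => by
    have a : k * x⁻¹ * k⁻¹ ∈ P := conj_mem_of_normalizes KP hk (inv_mem hx)
    rw [show ⁅x, k⁆ = x * (k * x⁻¹ * k⁻¹) by rw [commutatorElement_def]; group]
    refine ⟨mul_mem hx a, ?_⟩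
    have b : Commute (x * x) k := sq x hx k hk
    rw [four x hx _ a, conj_pow, inv_pow, show 4 = 2 * 2 from rfl, pow_mul, pow_two x,
      ← (b.pow_left 2).inv_left.eq, mul_inv_cancel_right, mul_inv_cancel])
  have PE : P ≤ centralizer (E : Set G) := PK.trans KE
  have oE : oz P ≤ E := le_sup_left.trans (eq_of_le_of_card_ge (le_sup_right : E ≤ oz P ⊔ E)
    ((m.le4 ((el_oz P).sup hE ((oz_le P).trans PE)) (le_normalizer_sup (norm_oz h3) hN)).trans
      (hE.four_le h2))).ge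
  refine ⟨P ⊔ E, le_sup_right, sup_le PE hE.le_cent, fun v hv => ?_, le_normalizer_sup h3 hN,
    fun c => h4 (c.trans (centralizer_le (SetLike.coe_subset_coe.2 le_sup_left)))⟩
  obtain ⟨x, hx, e, he, rfl⟩ := (mem_sup_of_normalizes_right (le_normalizer_of_le_centralizer PE)).1 hv
  have : x * e * (x * e) = x * x := by
    calc x * e * (x * e) = x * (e * x) * e := by group
      _ = x * x * (e * e) := by rw [PE hx e he]; group
      _ = _ := by rw [hE e he, mul_one]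
  rw [this]
  refine oE ⟨mul_mem hx hx, fun y hy => (sq x hx y (PK hy)).symm, ?_⟩
  rw [← (hZ hx).2, show 4 = 2 + 2 from rfl, pow_add, pow_two]

end MK

theorem rel_le [Finite G] {E V : Subgroup G} {t : G} (tt : t * t = 1) (EV : E ≤ V)
    (VC : V ≤ centralizer (E : Set G)) (sq : ∀ v ∈ V, v * v ∈ E) (tV : t ∈ normalizer (V : Set G))
    (tE : t ∈ normalizer (E : Set G)) (h : ∀ b ∈ V, ∀ c ∈ V, b⁻¹ * (t * b * t⁻¹) ∈ E →
      c⁻¹ * (t * c * t⁻¹) ∈ E → b ∉ E → c ∉ E → b⁻¹ * c ∈ E) : E.relIndex V ≤ 4 := by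
  have hn : (E.subgroupOf V).Normal := (normal_subgroupOf_iff_le_normalizer EV).2
    (le_normalizer_of_le_centralizer VC)
  let σ : V →* V := MonoidHom.mk' (fun a => ⟨t * a * t⁻¹, conj_mem_of_mem_normalizer tV a.2⟩)
    fun a b => Subtype.ext (conj_mul).symm
  let τ := QuotientGroup.map (E.subgroupOf V) (E.subgroupOf V) σ fun x hx =>
    conj_mem_of_mem_normalizer tE hx
  have := sq_le' (H := V ⧸ E.subgroupOf V) (fun x => by
    obtain ⟨x, rfl⟩ := QuotientGroup.mk_surjective x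
    rw [← QuotientGroup.mk_mul, QuotientGroup.eq_one_iff]
    exact sq x x.2) τ fun x => by
    obtain ⟨x, rfl⟩ := QuotientGroup.mk_surjective x
    refine congrArg QuotientGroup.mk (Subtype.ext ?_ : σ (σ x) = x)
    change t * (t * x * t⁻¹) * t⁻¹ = x
    calc t * (t * x * t⁻¹) * t⁻¹ = (t * t) * x * (t * t)⁻¹ := by group
      _ = x := by rw [tt]; group
  refine this.trans (Nat.pow_le_pow_left (m := 2) (not_lt.1 fun c => ?_) 2)
  obtain ⟨x, hx, x1, -⟩ := exists_ne c (mul_one 1)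
  have xx : x * x = 1 := by
    obtain ⟨x, rfl⟩ := QuotientGroup.mk_surjective x
    rw [← QuotientGroup.mk_mul, QuotientGroup.eq_one_iff]
    exact sq x x.2
  obtain ⟨y, hy, y1, yx⟩ := exists_ne c xx
  obtain ⟨x, rfl⟩ := QuotientGroup.mk_surjective x
  obtain ⟨y, rfl⟩ := QuotientGroup.mk_surjective y
  have a : y⁻¹ * σ y ∈ E.subgroupOf V := QuotientGroup.eq.1 (Eq.symm hy)
  have b : x⁻¹ * σ x ∈ E.subgroupOf V := QuotientGroup.eq.1 (Eq.symm hx)
  exact yx (QuotientGroup.eq.2 (h y y.2 x x.2 a b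
    (fun e => y1 ((QuotientGroup.eq_one_iff _).2 e)) fun e => x1 ((QuotientGroup.eq_one_iff _).2 e)))

theorem El.cent4 [Finite G] {X : Subgroup G} (h : El X) (h4 : Nat.card X ≤ 4) {w x u : G} (hw : w ∈ X)
    (w1 : w ≠ 1) (hx : x ∈ X) (x1 : x ≠ 1) (xw : x ≠ w) (c1 : u * w = w * u) (c2 : u * x = x * u) :
    u ∈ centralizer (X : Set G) := fun y hy => by
  by_cases y1 : y = 1
  · rw [y1, one_mul, mul_one]
  by_cases yw : y = w
  · rw [yw, c1]
  rcases h.four h4 hw w1 hx x1 xw hy y1 yw with rfl | rfl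
  · exact c2.symm
  · rw [mul_assoc, ← c1, ← mul_assoc, ← c2, mul_assoc]

theorem El.mv [Finite G] {X : Subgroup G} (h : El X) (h4 : Nat.card X ≤ 4) {w x u : G} (hw : w ∈ X)
    (w1 : w ≠ 1) (hx : x ∈ X) (x1 : x ≠ 1) (xw : x ≠ w) (hu : u ∈ normalizer (X : Set G))
    (c1 : u * w = w * u) (n : u ∉ centralizer (X : Set G)) : u * x * u⁻¹ = x * w :=
  (h.four h4 hw w1 hx x1 xw (conj_mem_of_mem_normalizer hu hx) (fun e => x1 (conj_eq_one_iff.1 e))
    fun e => xw (by rw [mul_inv_eq_iff_eq_mul, ← c1] at e; exact mul_left_cancel e)).resolve_left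
    fun e => n (h.cent4 h4 hw w1 hx x1 xw c1 (mul_inv_eq_iff_eq_mul.1 e))

theorem El.idx2 [Finite G] {X : Subgroup G} (h : El X) (h4 : Nat.card X = 4) {w u v : G} (hw : w ∈ X)
    (w1 : w ≠ 1) (hu : u ∈ normalizer (X : Set G)) (hv : v ∈ normalizer (X : Set G))
    (c1 : u * w = w * u) (c2 : v * w = w * v) (n1 : u ∉ centralizer (X : Set G))
    (n2 : v ∉ centralizer (X : Set G)) : u * v ∈ centralizer (X : Set G) := by
  obtain ⟨x, hx, x1, xw⟩ := exists_ne (A := X) (by omega) (h w hw)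
  refine h.cent4 h4.le hw w1 hx x1 xw (by rw [mul_assoc, c2, ← mul_assoc, c1, mul_assoc])
    (mul_inv_eq_iff_eq_mul.1 ?_)
  calc u * v * x * (u * v)⁻¹ = u * (v * x * v⁻¹) * u⁻¹ := by group
    _ = (u * x * u⁻¹) * (u * w * u⁻¹) := by rw [h.mv h4.le hw w1 hx x1 xw hv c2 n2]; group
    _ = x * (w * w) := by rw [h.mv h4.le hw w1 hx x1 xw hu c1 n1, c1]; group
    _ = x := by rw [h w hw, mul_one]

theorem El.exc [Finite G] {X B : Subgroup G} (h : El X) (h4 : Nat.card X = 4) (hB : El B)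
    (h2 : 2 < Nat.card B) {w : G} (hw : w ∈ X) (w1 : w ≠ 1) (hn : B ≤ normalizer (X : Set G))
    (hc : B ≤ centralizer ({w} : Set G)) : ∃ b ∈ B, b ≠ 1 ∧ b ∈ centralizer (X : Set G) := by
  by_contra! k
  obtain ⟨a, ha, a1, -⟩ := exists_ne h2 (mul_one 1)
  obtain ⟨b, hb, b1, ba⟩ := exists_ne h2 (hB a ha)
  exact k _ (mul_mem ha hb) (fun e => ba ((eq_inv_of_mul_eq_one_right e).trans (hB.inv ha)))
    (h.idx2 h4 hw w1 (hn ha) (hn hb) (mem_C.1 (hc ha)) (mem_C.1 (hc hb)) (k a ha a1) (k b hb b1))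

theorem MK.big [Finite G] {K E : Subgroup G} (m : MK K) (hE : El E)
    (hN : normalizer (K : Set G) ≤ normalizer (E : Set G)) (h2 : 2 < Nat.card E) : False := by
  have c4 : Nat.card E = 4 := le_antisymm (m.le4 hE hN) (hE.four_le h2)
  obtain ⟨S, hS, SN⟩ := m.syl
  obtain ⟨a, ha, g, tS, tE⟩ := m.h.nsc S E hS hE (fun e => by rw [e, card_bot] at h2; omega)
    (hS.le_of_normalized hE.pgroup le_top (SN.trans hN))
  have tE' : g * a * g⁻¹ ∈ g •ᶜ E := conj_mem_cj ha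
  have hi : E ⊓ g •ᶜ E = ⊥ := eq_bot_iff.2 fun x hx => by
    obtain ⟨y, hy, rfl⟩ := mem_cj'.1 hx.2
    by_contra e
    exact tE (conj_mem_of_mem_normalizer (hN (m.ti (hE y hy) (fun e' => e (by simp [e']))
      (m.kc hE hN hy) (m.kc hE hN hx.1))) ha)
  have cn : ∀ a ∈ E, a ≠ 1 → centralizer ({a} : Set G) ≤ normalizer (E : Set G) := fun a ha a1 =>
    (m.cn (hE a ha) a1 (m.kc hE hN ha)).trans hN
  have cn' := cn_cj cn g
  have hE' := hE.cj g
  have c4' : Nat.card ↥(g •ᶜ E) = 4 := by rw [card_cj, c4]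
  generalize g •ᶜ E = F at *
  generalize g * a * g⁻¹ = t at *
  have tt := hE' t tE'
  have t1 : t ≠ 1 := fun e => tE (e ▸ one_mem _)
  have cA : ∀ s ∈ F, s ≠ 1 → s ∉ centralizer (E : Set G) := fun s hs s1 hc => by
    have hc' : E ≤ centralizer ({s} : Set G) := fun y hy => mem_C.2 (hc y hy)
    obtain ⟨b, hb, b1, c⟩ := hE'.exc c4' hE h2 hs s1 (hc'.trans (cn' s hs s1)) hc'
    have := m.h.r.prod hE hE' (fun x hx y hy => (comm_of hi hx hy (cn' s hs s1 (hc' hx))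
      (cn b hb b1 (mem_C.2 (c y hy)))).symm) hi
    rw [c4, c4'] at this
    omega
  have tN : t ∈ normalizer (E : Set G) := hN (SN tS)
  obtain ⟨z, hz, z1⟩ : ∃ z ∈ E ⊓ centralizer ({t} : Set G), z ≠ 1 := by
    by_contra! k
    have := hE.sq_le tt tN
    rw [eq_bot_iff.2 (show E ⊓ centralizer ({t} : Set G) ≤ ⊥ from k), card_bot] at this
    omega
  have tz : t * z = z * t := (mem_C.1 hz.2).symm
  have fx : ∀ y ∈ E, t * y = y * t → y = 1 ∨ y = z := fun y hy c => by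
    by_contra! k
    exact cA t tE' t1 (hE.cent4 c4.le hz.1 z1 hy k.1 k.2 tz c)
  have zF : z ∉ centralizer (F : Set G) := fun hc => by
    have hc' : F ≤ centralizer ({z} : Set G) := fun y hy => mem_C.2 (hc y hy)
    obtain ⟨b, hb, b1, c⟩ := hE.exc c4 hE' (by omega) hz.1 z1 (hc'.trans (cn z hz.1 z1)) hc'
    exact cA b hb b1 c
  obtain ⟨V, EV, VC, sq, VN, nc⟩ := m.exV hE hN h2
  refine nc (cent_of_relIndex m.perf (m.all K E m.perf hE (le_normalizer.trans hN))
    (le_normalizer.trans VN) (rel_le tt EV VC sq (VN (SN tS)) tN fun b hb c hc b1 c1 b2 c2 => ?_))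
  have key : ∀ b ∈ V, b⁻¹ * (t * b * t⁻¹) ∈ E → ∃ e ∈ E, b * e ∈ centralizer (F : Set G) := by
    intro b hb h1
    obtain ⟨e, he, c⟩ : ∃ e ∈ E, b * e ∈ centralizer ({t} : Set G) := by
      have ti : t⁻¹ = t := inv_eq_of_mul_eq_one_left tt
      rcases fx _ h1 (by
        rw [← mul_inv_eq_iff_eq_mul]
        refine Eq.trans ?_ (hE.inv h1)
        calc t * (b⁻¹ * (t * b * t⁻¹)) * t⁻¹ = t * b⁻¹ * t * b * (t * t)⁻¹ := by group
          _ = t * b⁻¹ * t⁻¹ * b := by rw [tt, ti]; group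
          _ = _ := by group) with e | e
      · exact ⟨1, one_mem _, mem_C.2 (by
          rw [inv_mul_eq_one, eq_mul_inv_iff_mul_eq] at e; rw [mul_one, e])⟩
      obtain ⟨x, hx, x1, xz⟩ := exists_ne h2 (hE z hz.1)
      refine ⟨x, hx, mem_C.2 (mul_inv_eq_iff_eq_mul.1 ?_).symm⟩
      rw [← conj_mul, hE.mv c4.le hz.1 z1 hx x1 xz tN tz (cA t tE' t1), inv_mul_eq_iff_eq_mul.1 e,
        mul_assoc, hE.comm hx hz.1, ← mul_assoc z, hE z hz.1, one_mul]
    by_cases k : b * e ∈ centralizer (F : Set G)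
    · exact ⟨e, he, k⟩
    · exact ⟨e * z, mul_mem he hz.1, mul_assoc b e z ▸ hE'.idx2 c4' tE' t1 (cn' t tE' t1 c)
        (cn' t tE' t1 hz.2) (mem_C.1 c) tz.symm k zF⟩
  have in1 : ∀ y ∈ E, y ∈ centralizer (F : Set G) → y = 1 := fun y hy c =>
    (fx y hy (c t tE')).resolve_right fun e => zF (e ▸ c)
  have eY : El (V ⊓ centralizer (F : Set G)) := fun y hy => in1 _ (sq y hy.1) (Subgroup.mul_mem _ hy.2 hy.2)
  have cY := m.h.r.prod eY hE (inf_le_left.trans VC) (eq_bot_iff.2 fun y hy => in1 y hy.2 hy.1.2)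
  obtain ⟨e, he, k1⟩ := key b hb b1
  obtain ⟨f, hf, k2⟩ := key c hc c1
  have m1 : b * e ∈ V ⊓ centralizer (F : Set G) := ⟨mul_mem hb (EV he), k1⟩
  have m2 : c * f ∈ V ⊓ centralizer (F : Set G) := ⟨mul_mem hc (EV hf), k2⟩
  have : c * f = b * e := by
    by_contra n
    have := card_two (eY _ m1) (fun h => b2 ((mul_mem_cancel_right he).1 (h ▸ one_mem _)))
      (fun h : c * f = 1 => c2 ((mul_mem_cancel_right hf).1 (h ▸ one_mem _))) n m1 m2
    rw [c4] at cY
    omega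
  rw [show b⁻¹ * c = e * f⁻¹ by rw [eq_mul_inv_iff_mul_eq, mul_assoc, this, inv_mul_cancel_left]]
  exact mul_mem he (inv_mem hf)

theorem Hy.good [Finite G] (h : Hy G) {X : Subgroup G} (hX : IsPGroup 2 X) (X1 : X ≠ ⊥)
    (hs : ¬ Group.IsSolvable (normalizer (X : Set G))) :
    ∃ z : G, Good z ∧ (7 ∣ Nat.card G ∨ ¬ Group.IsSolvable (centralizer ({z} : Set G))) := by
  by_cases all : ∀ K A : Subgroup G, ⁅K, K⁆ = K → El A → K ≤ normalizer (A : Set G) →
      K ≤ centralizer (A : Set G)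
  · obtain ⟨K, m⟩ := h.exists_MK all hX X1 hs
    obtain ⟨z, a, b⟩ := m.small fun E hE hN => not_lt.1 (m.big hE hN)
    exact ⟨z, a, Or.inr b⟩
  · push Not at all
    obtain ⟨K, A, a, b, c, d⟩ := all
    obtain ⟨a, z, b⟩ := h.caseI a b c d
    exact ⟨z, b, Or.inl a⟩

end CL.R3
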